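import Groth.Agent.CohC3.BC.Classes
import Groth.Agent.CohFin.ProjFinite
import Groth.Agent.CohCmpLib.PullOn

/-!
# A bounded complex of finite modules computing the cohomology of all base changes
-/

universe u

open CategoryTheory Limits AlgebraicGeometry TopologicalSpace Opposite HomologicalComplex
open scoped TensorProduct
open Groth.CohBase Groth.CohBase.CxRank Groth.FlatCxBase
open Groth.PicAux (pullSec pullSec_map pullSec_comp)

set_option maxHeartbeats 800000
set_option backward.isDefEq.respectTransparency false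
set_option backward.defeqAttrib.useBackward true
set_option backward.isDefEq.respectTransparency.types false

namespace Groth.CohC3.BC

/-- Presentations `Q p → P p → Q (p + 1) → 0` whose kernels compute the cohomology of `G` and of all
its base changes. -/
structure Model {A : Type u} [CommRing A] {U : Scheme.{u}} (q : U ⟶ Spec (CommRingCat.of A))
    (G : U.Modules) where
  /-- the cokernels -/
  Q : ℕ → ModuleCat.{u} A
  /-- the terms -/
  P : ℕ → ModuleCat.{u} A
  /-- the differentials out of the cokernels -/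
  d : ∀ p, Q p →ₗ[A] P p
  /-- the projections -/
  π : ∀ p, P p →ₗ[A] Q (p + 1)
  exact : ∀ p, Function.Exact (d p) (π p)
  surjective : ∀ p, Function.Surjective (π p)
  free : ∀ p, Module.Free A (P p)
  finite : ∀ p, Module.Finite A (P p)
  finitePresentation : ∀ p, Module.FinitePresentation A (Q p)
  flat_zero : Module.Flat A (Q 0)
  bdd : ∃ b, ∀ p, b < p → Subsingleton (Q p)
  /-- the cohomology of `G` -/
  e₀ : ∀ p, LinearMap.ker (d p) ≃ₗ[A] CohFin.HA q G p
  exists_e : ∀ (B : Type u) [CommRing B] [Algebra A B] {Y : Scheme.{u}}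
    (qY : Y ⟶ Spec (CommRingCat.of B)) (u : Y ⟶ U),
    IsPullback u qY q (Spec.map (CommRingCat.ofHom (algebraMap A B))) → ∀ p,
    ∃ e : LinearMap.ker ((d p).baseChange B) ≃ₗ[B]
        CohFin.HA qY ((Scheme.Modules.pullback u).obj G) p,
      ∀ (x : LinearMap.ker (d p)) (z : LinearMap.ker ((d p).baseChange B)),
        z.1 = (1 : B) ⊗ₜ[A] x.1 → e z = CohPull.pullMod u G p (e₀ p x)

lemma mapH_id {X : Scheme.{u}} (M : X.Modules) (p : ℕ) (x : Coh.HH X M p) :
    CohPull.mapH (𝟙 M) p x = x := by
  change Sheaf.H.map ((SheafOfModules.toSheaf X.ringCatSheaf).map (𝟙 M)) p x = x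
  rw [CategoryTheory.Functor.map_id]
  exact Sheaf.H.map_id_apply x

section Cancel

variable {A₀ A B N P : Type u} [CommRing A₀] [CommRing A] [CommRing B] [Algebra A₀ A] [Algebra A₀ B]
  [Algebra A B] [IsScalarTower A₀ A B] [AddCommGroup N] [Module A₀ N] [AddCommGroup P] [Module A₀ P]

lemma cancelBaseChange_baseChange (f : N →ₗ[A₀] P) (z : B ⊗[A] (A ⊗[A₀] N)) :
    TensorProduct.AlgebraTensorModule.cancelBaseChange A₀ A B B P
        ((f.baseChange A).baseChange B z) =
      f.baseChange B (TensorProduct.AlgebraTensorModule.cancelBaseChange A₀ A B B N z) := by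
  induction z using TensorProduct.induction_on with
  | zero => simp
  | add p q hp hq => simp only [map_add, hp, hq]
  | tmul b w =>
    induction w using TensorProduct.induction_on with
    | zero => simp
    | add p q hp hq => simp only [TensorProduct.tmul_add, map_add, hp, hq]
    | tmul a n => simp

/-- Kernels of iterated base changes. -/
noncomputable def kerCancelEquiv (f : N →ₗ[A₀] P) :
    LinearMap.ker ((f.baseChange A).baseChange B) ≃ₗ[B] LinearMap.ker (f.baseChange B) :=
  LinearEquiv.ofSubmodules (TensorProduct.AlgebraTensorModule.cancelBaseChange A₀ A B B N) _ _ (by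
    ext y
    constructor
    · rintro ⟨z, hz, rfl⟩
      refine (cancelBaseChange_baseChange f z).symm.trans ?_
      rw [show (f.baseChange A).baseChange B z = 0 from hz, map_zero]
    · intro hy
      refine ⟨(TensorProduct.AlgebraTensorModule.cancelBaseChange A₀ A B B N).symm y, ?_,
        LinearEquiv.apply_symm_apply _ y⟩
      apply (TensorProduct.AlgebraTensorModule.cancelBaseChange A₀ A B B P).injective
      rw [cancelBaseChange_baseChange, LinearEquiv.apply_symm_apply, map_zero]
      exact hy)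

lemma kerCancelEquiv_coe (f : N →ₗ[A₀] P) (z : LinearMap.ker ((f.baseChange A).baseChange B)) :
    (kerCancelEquiv f z).1 = TensorProduct.AlgebraTensorModule.cancelBaseChange A₀ A B B N z.1 :=
  rfl

lemma cancelBaseChange_one_tmul (y : A ⊗[A₀] N) :
    TensorProduct.AlgebraTensorModule.cancelBaseChange A₀ A B B N ((1 : B) ⊗ₜ[A] y) =
      (IsScalarTower.toAlgHom A₀ A B).toLinearMap.rTensor N y := by
  induction y using TensorProduct.induction_on with
  | zero => simp
  | add p q hp hq => simp only [TensorProduct.tmul_add, map_add, hp, hq]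
  | tmul a n => simp [Algebra.smul_def]

lemma comm_rTensor {M' M'' : Type u} [AddCommGroup M'] [Module A₀ M'] [AddCommGroup M'']
    [Module A₀ M''] (g : M' →ₗ[A₀] M'') (y : M' ⊗[A₀] N) :
    TensorProduct.comm A₀ M'' N (g.rTensor N y) =
      g.lTensor N (TensorProduct.comm A₀ M' N y) := by
  induction y using TensorProduct.induction_on with
  | zero => simp
  | tmul a n => rfl
  | add p q hp hq => simp [hp, hq]

end Cancel

variable {A₀ : Type u} [CommRing A₀] [IsNoetherianRing A₀] {X₀ : Scheme.{u}}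
  [X₀.Over (Spec (CommRingCat.of A₀))] [IsProper (X₀ ↘ Spec (CommRingCat.of A₀))]
  {A : Type u} [CommRing A] [Algebra A₀ A]

/-- A model exists for a base change of a flat coherent module on a proper scheme over a Noetherian
ring. -/
theorem exists_model_of_noetherian (F : X₀.Modules) (hF : Coh.IsCoh F)
    (hfl : FlatMod.IsFlatOver (X₀ ↘ Spec (CommRingCat.of A₀)) F) {U : Scheme.{u}}
    (q : U ⟶ Spec (CommRingCat.of A)) (r : U ⟶ X₀)
    (hr : IsPullback r q (X₀ ↘ Spec (CommRingCat.of A₀))
      (Spec.map (CommRingCat.ofHom (algebraMap A₀ A)))) (G : U.Modules) [G.IsQuasicoherent]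
    (α : (Scheme.Modules.pullback r).obj F ≅ G) : Nonempty (Model q G) := by
  let p₀ := X₀ ↘ Spec (CommRingCat.of A₀)
  have := hF.1
  have : CompactSpace X₀ := CohFin.compactSpace_of_proper p₀
  have : X₀.IsSeparated := CohFin.isSeparated_of_proper p₀
  obtain ⟨cov⟩ := exists_goodCover X₀
  obtain ⟨L, φ, hL, ⟨b, hb⟩, hq⟩ := exists_finiteFree_qis A₀ cov F hfl
    fun p => CohFin.hFin_of_proper CohFin.projFinite p X₀ p₀ F hF
  have := fun i => (hL i).1
  have := fun i => (hL i).2
  have : ∀ i, Module.Flat A₀ (L.X i) := fun i => inferInstance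
  letI : U.Over (Spec (CommRingCat.of A)) := ⟨q⟩
  choose e₀ he₀ using fun p => exists_linEquiv cov F (B := A) (Y := U) (g := r) hr α φ hq p
  have hnext : ∀ p : ℕ, (((p + 1 : ℕ) : ℤ) - 1) = (p : ℤ) := fun p => by simp
  refine ⟨{
    Q := fun p => ModuleCat.of A (A ⊗[A₀] Qc L (p : ℤ))
    P := fun p => ModuleCat.of A (A ⊗[A₀] L.X ((p : ℤ) + 1))
    d := fun p => (dq L (p : ℤ)).baseChange A
    π := fun p => (cokerπ L (((p + 1 : ℕ) : ℤ) - 1) ((p + 1 : ℕ) : ℤ)).baseChange A
    exact := fun p => ?_
    surjective := fun p =>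
      LinearMap.baseChange_surjective (R := A₀)
        (g := cokerπ L (((p + 1 : ℕ) : ℤ) - 1) ((p + 1 : ℕ) : ℤ)) A (Submodule.mkQ_surjective _)
    free := fun p => inferInstanceAs (Module.Free A (A ⊗[A₀] L.X ((p : ℤ) + 1)))
    finite := fun p => inferInstanceAs (Module.Finite A (A ⊗[A₀] L.X ((p : ℤ) + 1)))
    finitePresentation := fun p => ?_
    flat_zero := ?_
    bdd := ⟨b.toNat, fun p hp => ?_⟩
    e₀ := e₀
    exists_e := ?_ }⟩
  · refine lTensor_exact A (LinearMap.exact_iff.2 ?_) (Submodule.mkQ_surjective _)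
    rw [Submodule.ker_mkQ, range_dq, hnext]
    rfl
  · have : Module.FinitePresentation A₀ (Qc L (p : ℤ)) := Module.finitePresentation_of_finite A₀ _
    exact inferInstanceAs (Module.FinitePresentation A (A ⊗[A₀] Qc L (p : ℤ)))
  · have h0 : Module.Flat A₀ (Qc L ((-1 : ℤ) + 1)) := flat_Qc_succ_of_isZero L (-1) fun M => by
      refine IsZero.of_iso ?_ ((tFunIso φ (-1) hq).app M)
      refine (isZero_T_iff _ (cochain_prev (-1)) (cochain_next (-1)) M).2 fun x _ => ⟨0, ?_⟩
      have := ModuleCat.subsingleton_of_isZero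
        (isZero_cxA_of_neg A₀ cov.U F (i := -1) (by omega))
      exact Subsingleton.elim _ _
    have : Module.Flat A₀ (Qc L ((0 : ℕ) : ℤ)) := by
      rwa [show ((0 : ℕ) : ℤ) = -1 + 1 by norm_num]
    exact inferInstanceAs (Module.Flat A (A ⊗[A₀] Qc L ((0 : ℕ) : ℤ)))
  · have := ModuleCat.subsingleton_of_isZero (hb (p : ℤ) (by omega))
    have : Subsingleton (Qc L (p : ℤ)) := (Submodule.mkQ_surjective _).subsingleton
    exact inferInstanceAs (Subsingleton (A ⊗[A₀] Qc L (p : ℤ)))
  · intro B _ _ Y qY u hu p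
    letI : Algebra A₀ B := ((algebraMap A B).comp (algebraMap A₀ A)).toAlgebra
    have : IsScalarTower A₀ A B := IsScalarTower.of_algebraMap_eq fun _ => rfl
    letI : Y.Over (Spec (CommRingCat.of B)) := ⟨qY⟩
    have hsq : IsBC (A := A₀) (A' := B) (u ≫ r) := by
      have h := hu.paste_horiz hr
      rw [← Spec.map_comp] at h
      exact h
    let θ : (Scheme.Modules.pullback (u ≫ r)).obj F ≅ (Scheme.Modules.pullback u).obj G :=
      ((Scheme.Modules.pullbackComp u r).symm.app F) ≪≫ (Scheme.Modules.pullback u).mapIso α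
    have : ((Scheme.Modules.pullback u).obj G).IsQuasicoherent :=
      QCohMod.isQCoh_pullback_obj u G
    obtain ⟨e, he⟩ := exists_linEquiv cov F (Y := Y) hsq θ φ hq p
    refine ⟨(kerCancelEquiv (A := A) (dq L (p : ℤ))).trans e, fun x z hz => ?_⟩
    obtain ⟨w, hw⟩ := cycToKer_surjective L (ModuleCat.of A₀ A) (p : ℤ)
      (kerCommEquiv (dq L (p : ℤ)) x)
    have hw₀ : TensorProduct.comm A₀ A (Qc L (p : ℤ)) x.1 =
        (cokerπ L ((p : ℤ) - 1) p).rTensor A w.1 := (congrArg Subtype.val hw).symm
    let ψ := IsScalarTower.toAlgHom A₀ A B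
    let w' : LinearMap.ker ((L.d (p : ℤ) ((p : ℤ) + 1)).hom.rTensor B) :=
      ⟨ψ.toLinearMap.lTensor (L.X (p : ℤ)) w.1,
        lTensor_mem_ker L (ModuleCat.of A₀ A) (ModuleCat.ofHom (Y := ModuleCat.of A₀ B) ψ.toLinearMap) w⟩
    have hw₁ : TensorProduct.comm A₀ B (Qc L (p : ℤ))
        (kerCancelEquiv (A := A) (dq L (p : ℤ)) z).1 = (cokerπ L ((p : ℤ) - 1) p).rTensor B w'.1 := by
      rw [kerCancelEquiv_coe, hz]
      refine (congrArg _ (cancelBaseChange_one_tmul x.1)).trans ?_
      refine (comm_rTensor ψ.toLinearMap x.1).trans ?_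
      rw [hw₀]
      exact lTensor_rTensor (cokerπ L ((p : ℤ) - 1) p) ψ.toLinearMap w.1
    refine (he _ _ hw₁).trans ?_
    refine Eq.trans ?_ (congrArg (CohPull.pullMod u G p) (he₀ p x w hw₀)).symm
    refine Eq.trans ?_ (mapH_id _ p _)
    refine (mapH_pullMod_cycToHH cov F (Y := U) hr α u hsq θ ψ hu.w (𝟙 _) (fun W m => ?_) p _ _ ?_).symm
    · change pullSec u G (α.hom.app (r ⁻¹ᵁ W) (pullSec r F m)) =
        ((Scheme.Modules.pullback u).map α.hom).app _
          (((Scheme.Modules.pullbackComp u r).inv.app F).app _ (pullSec (u ≫ r) F m))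
      refine Eq.trans ?_ (congrArg
        (((Scheme.Modules.pullback u).map α.hom).app (u ⁻¹ᵁ r ⁻¹ᵁ W))
        (Groth.CohCmpLib.pullbackComp_inv_pullSec u r F m)).symm
      exact (pullSec_map u α.hom _).symm
    · exact (lTensor_rTensor (φ.f (p : ℤ)).hom ψ.toLinearMap w.1).symm

end Groth.CohC3.BC
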