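import Groth.Agent.CohC3.BC.StageModule
import Groth.Agent.CohC3.BC.Model
import Groth.Agent.Limits.ProperFibreModel
import Groth.Agent.FlatMorOne.FlatStageGlobal
import Groth.Agent.CohBase.FibreBC
import Groth.Agent.LocFree.FP
import Groth.Agent.FlatStrata.Twist
import Groth.Agent.Pi1FPDesc.Basic

/-!
# Noetherian models of flat modules of finite presentation on proper schemes
-/

universe u

open CategoryTheory Limits AlgebraicGeometry TopologicalSpace Opposite

set_option maxHeartbeats 800000
set_option backward.isDefEq.respectTransparency false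
set_option backward.defeqAttrib.useBackward true
set_option backward.isDefEq.respectTransparency.types false

namespace Groth.CohC3.BC

/-- A coherent module on a locally Noetherian scheme is of finite presentation. -/
lemma isFP_of_isCoh {X : Scheme.{u}} [IsLocallyNoetherian X] (F : X.Modules) (hF : Coh.IsCoh F) :
    CohB1.IsFP F := by
  have := hF.1
  refine Groth.LocFree.isFP_of_affine_cover F fun x => ?_
  obtain ⟨U, hU, hx⟩ := Groth.QCohMod.exists_affine_mem x
  have : IsNoetherianRing Γ(X, U) := IsLocallyNoetherian.component_noetherian ⟨U, hU⟩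
  have := Groth.QCohMod.finite_sections F hF.2 hU
  exact ⟨U, hU, hx, Module.finitePresentation_of_finite _ _⟩

/-- A flat module of finite presentation on a proper scheme of finite presentation over a ring is
the inverse image of a flat coherent module on a proper scheme over a Noetherian ring. -/
theorem exists_noetherian_data {A : Type u} [CommRing A] {U : Scheme.{u}}
    (q : U ⟶ Spec (CommRingCat.of A)) [IsProper q] [LocallyOfFinitePresentation q] (G : U.Modules)
    [G.IsQuasicoherent] (hG : CohB1.IsFP G) (hfl : FlatMod.IsFlatOver q G) :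
    ∃ (A₀ : Type u) (_ : CommRing A₀) (_ : IsNoetherianRing A₀) (φ : A₀ →+* A) (X₀ : Scheme.{u})
      (q₀ : X₀ ⟶ Spec (CommRingCat.of A₀)) (r : U ⟶ X₀) (F₀ : X₀.Modules), IsProper q₀ ∧
      IsPullback r q q₀ (Spec.map (CommRingCat.ofHom φ)) ∧ Coh.IsCoh F₀ ∧
      FlatMod.IsFlatOver q₀ F₀ ∧ Nonempty ((Scheme.Modules.pullback r).obj F₀ ≅ G) := by
  classical
  let AA : CommRingCat.{u} := CommRingCat.of A
  let D := SpectralTopology.fgSchemes AA
  let c := SpectralTopology.fgCone AA
  have hc : IsLimit c := SpectralTopology.isLimitFgCone AA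
  haveI hDaff : ∀ i, IsAffine (D.obj i) := fun i => inferInstanceAs (IsAffine (Spec _))
  haveI : IsDirectedOrder (SpectralTopology.FGSub AA) :=
    ⟨fun s t => ⟨⟨s.1 ⊔ t.1, s.2.sup t.2⟩, (le_sup_left : s.1 ≤ s.1 ⊔ t.1),
      (le_sup_right : t.1 ≤ s.1 ⊔ t.1)⟩⟩
  haveI : Nonempty (SpectralTopology.FGSub AA) := ⟨⟨⊥, Subalgebra.fg_bot⟩⟩
  haveI : IsFiltered (SpectralTopology.FGSub AA) := isFiltered_of_directed_le_nonempty _
  haveI : IsCofiltered (SpectralTopology.FGSub AA)ᵒᵖ := isCofiltered_op_of_isFiltered _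
  obtain ⟨i, N, hN⟩ := Limits.exists_proper_stageModel hc (Y := U) q
  let St := Limits.stages D N.hom
  let C := Limits.stagesCone D N.hom (c := c)
  have hC : IsLimit C := Limits.isLimitStagesCone D N.hom hc
  haveI hnoeth : ∀ k : Over i, IsNoetherian (D.obj k.left) := fun k =>
    SpectralTopology.isNoetherian_fgSchemes AA k.left
  haveI hprop : ∀ k : Over i, IsProper (pullback.snd N.hom (D.map k.hom)) := fun k =>
    MorphismProperty.pullback_snd _ _ hN
  haveI : ∀ k : Over i, CompactSpace (St.obj k) := fun k =>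
    QuasiCompact.compactSpace_of_compactSpace (pullback.snd N.hom (D.map k.hom))
  haveI : ∀ k : Over i, QuasiSeparatedSpace (St.obj k) := fun k =>
    quasiSeparatedSpace_of_quasiSeparated (pullback.snd N.hom (D.map k.hom))
  haveI : ∀ k : Over i, IsLocallyNoetherian (St.obj k) := fun k =>
    LocallyOfFiniteType.isLocallyNoetherian (pullback.snd N.hom (D.map k.hom))
  let e : U ≅ C.pt := N.sq.isoPullback
  let G' := (Scheme.Modules.pullback e.inv).obj G
  have : G'.IsQuasicoherent := Groth.QCohMod.isQCoh_pullback_obj e.inv G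
  obtain ⟨k, -, G₀, hG₀, ⟨α₀⟩⟩ := exists_stage_module (D := St) (c := C) hC (Over.mk (𝟙 i)) G'
    (Groth.QCohMod.isFP_pullback e.inv G hG)
  let X₁ := pullback N.hom (D.map k.hom)
  let f₀ : X₁ ⟶ D.obj k.left := pullback.snd _ _
  let qX : U ⟶ X₁ := e.hom ≫ C.π.app k
  have hqf : qX ≫ pullback.fst N.hom (D.map k.hom) = N.map := by
    change (e.hom ≫ pullback.lift _ _ _) ≫ _ = _
    exact (Category.assoc _ _ _).trans
      ((congrArg (e.hom ≫ ·) (pullback.lift_fst _ _ _)).trans N.sq.isoPullback_hom_fst)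
  have hqs : qX ≫ f₀ = q ≫ c.π.app k.left := by
    change (e.hom ≫ pullback.lift _ _ _) ≫ pullback.snd _ _ = _
    exact (Category.assoc _ _ _).trans ((congrArg (e.hom ≫ ·) (pullback.lift_snd _ _ _)).trans
      ((Category.assoc _ _ _).symm.trans (congrArg (· ≫ c.π.app k.left) N.sq.isoPullback_hom_snd)))
  have hX : IsPullback qX q f₀ (c.π.app k.left) := by
    refine IsPullback.of_right ?_ hqs (IsPullback.of_hasPullback N.hom (D.map k.hom))
    rw [hqf, c.w]
    exact N.sq
  let β : (Scheme.Modules.pullback qX).obj G₀ ≅ G :=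
    ((Scheme.Modules.pullbackComp e.hom (C.π.app k)).app G₀).symm ≪≫
      (Scheme.Modules.pullback e.hom).mapIso α₀ ≪≫
      (Scheme.Modules.pullbackComp e.hom e.inv).app G ≪≫
      (Scheme.Modules.pullbackCongr e.hom_inv_id).app G ≪≫ (Scheme.Modules.pullbackId U).app G
  have := hG₀.1
  have : IsProper f₀ := hprop k
  haveI : LocallyOfFinitePresentation f₀ := MorphismProperty.pullback_snd _ _ inferInstance
  haveI : LocallyOfFinitePresentation (f₀ ≫ 𝟙 (D.obj k.left)) := by
    rw [Category.comp_id]; infer_instance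
  haveI : QuasiCompact (f₀ ≫ 𝟙 (D.obj k.left)) := by rw [Category.comp_id]; infer_instance
  haveI : IsIso (𝟙 c.pt : c.pt ⟶ c.pt) := IsIso.id _
  have hY : IsPullback (c.π.app k.left) (𝟙 c.pt) (𝟙 (D.obj k.left)) (c.π.app k.left) :=
    IsPullback.of_vert_isIso ⟨(Category.comp_id _).trans (Category.id_comp _).symm⟩
  obtain ⟨j, φ, hflat⟩ := Groth.FlatMorOne.exists_stage_isFlatOver (D := D) (c := c) f₀
    (𝟙 (D.obj k.left)) hc G₀ (isFP_of_isCoh (X := St.obj k) G₀ hG₀) (g := 𝟙 c.pt) hY hX
    (fun x => (Groth.FlatMorOne.isFlatOverAt_congr q β x).mpr (hfl x))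
  let X₂ := pullback f₀ (D.map φ)
  let q₂ : X₂ ⟶ D.obj j := pullback.snd _ _
  let pX : X₂ ⟶ X₁ := pullback.fst _ _
  have hA : IsPullback pX q₂ (f₀ ≫ 𝟙 (D.obj k.left)) (D.map φ) := by
    rw [Category.comp_id]; exact IsPullback.of_hasPullback f₀ (D.map φ)
  have hB : IsPullback (D.map φ) (𝟙 (D.obj j)) (𝟙 (D.obj k.left)) (D.map φ) :=
    IsPullback.of_vert_isIso ⟨by simp⟩
  have H : IsPullback hA.isoPullback.hom q₂ (Groth.FlatMorOne.stageHom f₀ (𝟙 (D.obj k.left)) φ)
      hB.isoPullback.hom := IsPullback.of_horiz_isIso ⟨by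
    apply pullback.hom_ext
    · rw [Category.assoc, Category.assoc, pullback.lift_fst, IsPullback.isoPullback_hom_fst_assoc,
        IsPullback.isoPullback_hom_fst]
      exact pullback.condition
    · rw [Category.assoc, Category.assoc, pullback.lift_snd, IsPullback.isoPullback_hom_snd,
        IsPullback.isoPullback_hom_snd, Category.comp_id]⟩
  have hfl₂ : FlatMod.IsFlatOver q₂ ((Scheme.Modules.pullback pX).obj G₀) := fun x =>
    Groth.FlatMorOne.isFlatOverAt_of_square G₀ H hA.isoPullback_hom_fst x (hflat _)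
  let r : U ⟶ X₂ := pullback.lift qX (q ≫ c.π.app j) (by
    rw [hqs, Category.assoc, c.w])
  have hr : IsPullback r q q₂ (c.π.app j) := by
    refine IsPullback.of_right ?_ (pullback.lift_snd _ _ _)
      (IsPullback.of_hasPullback f₀ (D.map φ))
    rw [pullback.lift_fst, c.w]
    exact hX
  have : IsNoetherianRing j.unop.1 :=
    have : Algebra.FiniteType ℤ j.unop.1 := j.unop.1.fg_iff_finiteType.1 j.unop.2
    Algebra.FiniteType.isNoetherianRing ℤ _
  refine ⟨j.unop.1, inferInstance, inferInstance, j.unop.1.val.toRingHom, X₂, q₂, r,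
    (Scheme.Modules.pullback pX).obj G₀, MorphismProperty.pullback_snd _ _ (hprop k), hr,
    Groth.FlatStrata.isCoh_pullback pX hG₀, hfl₂, ⟨?_⟩⟩
  exact (Scheme.Modules.pullbackComp r pX).app G₀ ≪≫
    (Scheme.Modules.pullbackCongr (pullback.lift_fst _ _ _)).app G₀ ≪≫ β

/-- A model exists for a flat module of finite presentation on a proper scheme of finite
presentation over a ring. -/
theorem exists_model {A : Type u} [CommRing A] {U : Scheme.{u}}
    (q : U ⟶ Spec (CommRingCat.of A)) [IsProper q] [LocallyOfFinitePresentation q] (G : U.Modules)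
    [G.IsQuasicoherent] (hG : CohB1.IsFP G) (hfl : FlatMod.IsFlatOver q G) :
    Nonempty (Model q G) := by
  obtain ⟨A₀, _, _, φ, X₀, q₀, r, F₀, hq₀, hr, hF₀, hfl₀, ⟨α⟩⟩ :=
    exists_noetherian_data q G hG hfl
  letI : X₀.Over (Spec (CommRingCat.of A₀)) := ⟨q₀⟩
  haveI : IsProper (X₀ ↘ Spec (CommRingCat.of A₀)) := hq₀
  letI : Algebra A₀ A := φ.toAlgebra
  exact exists_model_of_noetherian F₀ hF₀ hfl₀ q r hr G α

/-- A model exists over an affine open of the base. -/
theorem exists_model_preimage {X S : Scheme.{u}} (f : X ⟶ S) [IsProper f]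
    [LocallyOfFinitePresentation f] {V : S.Opens} (hV : IsAffineOpen V) (F : X.Modules)
    [F.IsQuasicoherent] (hF : CohB1.IsFP F) (hfl : FlatMod.IsFlatOver f F) :
    Nonempty (Model (Groth.CohBase.preimageToSpec f (V := V)) (F.restrict (f ⁻¹ᵁ V).ι)) := by
  have h := Groth.CohBase.isPullback_preimageToSpec f hV
  haveI : IsProper (Groth.CohBase.preimageToSpec f (V := V)) := MorphismProperty.of_isPullback h ‹_›
  haveI : LocallyOfFinitePresentation (Groth.CohBase.preimageToSpec f (V := V)) :=
    MorphismProperty.of_isPullback h ‹_›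
  exact exists_model _ _
    (Groth.Pi1FPDesc.isFP_of_iso ((Scheme.Modules.restrictFunctorIsoPullback _).app F).symm
      (Groth.QCohMod.isFP_pullback _ F hF))
    (Groth.CohBase.isFlatOver_restrict_preimage f hV F hfl)

end Groth.CohC3.BC
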