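import Groth.Agent.PicAux.LimitInv
import Groth.Agent.CohCmpLib.PullOn
import Groth.Agent.QCohMod.PullbackSections
import Groth.Agent.QCohMod.FPColimit
import Groth.Agent.QCohMod.Coherent
import Groth.Agent.QCohMod.QCQS
import Groth.Agent.PropsBasic.FPSections
import Groth.Agent.PropsBasic.LocFree
import Groth.Agent.CohBase.CechCx

/-!
# A finitely presented module on a limit of Noetherian schemes comes from a stage
-/

universe u

open CategoryTheory Limits AlgebraicGeometry TopologicalSpace Opposite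
open scoped TensorProduct
open Groth.PicAux (pullSec pullSec_comp pullSec_smul res_pullSec)
open Groth.PicAux.LimitInv (pre lim lim_le toLim trans toLim_trans exists_common exists_toLim_eq)

set_option maxHeartbeats 800000
set_option backward.isDefEq.respectTransparency false
set_option backward.defeqAttrib.useBackward true
set_option backward.isDefEq.respectTransparency.types false

namespace Groth.CohC3.BC

/-- A transposed map on sections. -/
lemma homEquiv_app {X Y : Scheme.{u}} (f : X ⟶ Y) {M : Y.Modules} {N : X.Modules}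
    (a : (Scheme.Modules.pullback f).obj M ⟶ N) {U : Y.Opens} (m : Γ(M, U)) :
    ((Scheme.Modules.pullbackPushforwardAdjunction f).homEquiv _ _ a).app U m =
      a.app (f ⁻¹ᵁ U) (pullSec f M m) := by
  rw [Adjunction.homEquiv_unit]
  rfl

variable {I : Type u} [Category.{u} I] [IsCofiltered I] {D : I ⥤ Scheme.{u}} {c : Cone D}
  [∀ {i j} (f : i ⟶ j), IsAffineHom (D.map f)] [∀ i, CompactSpace (D.obj i)]
  [∀ i, QuasiSeparatedSpace (D.obj i)] [∀ i, IsLocallyNoetherian (D.obj i)] (hc : IsLimit c)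

include hc in
/-- A quasi-coherent module of finite presentation on the limit is the inverse image of a coherent
module on a stage. -/
theorem exists_stage_module (i₀ : I) (G : c.pt.Modules) [G.IsQuasicoherent] (hG : CohB1.IsFP G) :
    ∃ (i : I) (_ : i ⟶ i₀) (G₀ : (D.obj i).Modules), Coh.IsCoh G₀ ∧
      Nonempty ((Scheme.Modules.pullback (c.π.app i)).obj G₀ ≅ G) := by
  classical
  have haff : ∀ i, IsAffineHom (c.π.app i) := isAffineHom_π_app D c hc
  let π : c.pt ⟶ D.obj i₀ := c.π.app i₀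
  have hGT : CohB1.IsFT G := Groth.PropsBasic.LocFree.isFT_of_isFP G hG
  let N := (Scheme.Modules.pushforward π).obj G
  have : N.IsQuasicoherent := Groth.QCohMod.isQCoh_pushforward G π
  obtain ⟨n, V, hV, hcov, -, -⟩ := Groth.QCohMod.exists_finite_cover (X := D.obj i₀)
  have hW : ∀ a, IsAffineOpen (π ⁻¹ᵁ V a) := fun a => (hV a).preimage π
  have hWcov : ⨆ a, π ⁻¹ᵁ V a = ⊤ := by
    rw [← Scheme.Hom.preimage_iSup, hcov, Scheme.Hom.preimage_top]
  -- a module of finite presentation on `D i₀` generating `G`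
  choose S hS using fun a => (Groth.QCohMod.finite_sections G hGT (hW a)).fg_top
  choose Gs hGsq φ s hGsfp hs using fun (k : Σ a : ULift.{u} (Fin n), S a.down) =>
    Groth.QCohMod.exists_fp_hit N (hV k.1.down) (show Γ(N, V k.1.down) from k.2.1)
  let G₁ : (D.obj i₀).Modules := ∐ Gs
  have : G₁.IsQuasicoherent := inferInstance
  have hG₁ : CohB1.IsFP G₁ := Groth.QCohMod.isFP_sigma Gs hGsfp
  let P := (Scheme.Modules.pullback π).obj G₁
  have : P.IsQuasicoherent := Groth.QCohMod.isQCoh_pullback_obj π G₁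
  let e : P ⟶ G :=
    ((Scheme.Modules.pullbackPushforwardAdjunction π).homEquiv _ _).symm (Sigma.desc φ)
  have he : Epi e := by
    refine Preadditive.epi_of_cokernel_zero
      (Groth.QCohMod.hom_eq_zero_of_cover _ (fun a => π ⁻¹ᵁ V a) hW hWcov fun a b => ?_)
    have hb : b ∈ Submodule.span Γ(c.pt, π ⁻¹ᵁ V a) (S a : Set _) := (hS a).ge trivial
    change b ∈ LinearMap.ker (Groth.QCohMod.appₗ (cokernel.π e) (π ⁻¹ᵁ V a))
    refine Submodule.span_le.2 (fun m hm => ?_) hb
    change (cokernel.π e).app (π ⁻¹ᵁ V a) m = 0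
    let k : Σ a : ULift.{u} (Fin n), S a.down := ⟨⟨a⟩, m, hm⟩
    have h1 : (Sigma.desc φ).app (V a) ((Sigma.ι Gs k).app (V a) (s k)) = m :=
      (congr(($(Sigma.ι_desc φ k)).app (V a) (s k))).trans (hs k)
    have h2 : e.app (π ⁻¹ᵁ V a) (pullSec π G₁ ((Sigma.ι Gs k).app (V a) (s k))) = m := by
      rw [← homEquiv_app π e, Equiv.apply_symm_apply]
      exact h1
    rw [← h2]
    exact congr(($(cokernel.condition e)).app (π ⁻¹ᵁ V a) _)
  -- generators of the kernel
  have hKfin : ∀ a, Module.Finite Γ(c.pt, π ⁻¹ᵁ V a) Γ((kernel e : c.pt.Modules), π ⁻¹ᵁ V a) := by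
    intro a
    have := Groth.QCohMod.finite_sections P (Groth.PropsBasic.LocFree.isFT_of_isFP P
      (Groth.QCohMod.isFP_pullback π G₁ hG₁)) (hW a)
    have := Groth.PropsBasic.FPSections.finitePresentation_sections G hG (hW a)
    exact Groth.QCohMod.finite_kernel_sections e (Groth.QCohMod.app_surjective_of_epi e (hW a))
  choose T hT using fun a => (hKfin a).fg_top
  have hrep : ∀ k : Σ a : Fin n, T a, ∃ (m : ℕ) (b : Fin m → Γ(c.pt, π ⁻¹ᵁ V k.1))
      (x : Fin m → Γ(G₁, V k.1)), (kernel.ι e).app (π ⁻¹ᵁ V k.1) k.2.1 =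
        ∑ l, b l • QCohMod.res P le_rfl (pullSec π G₁ (x l)) := by
    intro k
    letI := Groth.QCohMod.sectionsAlg π (le_refl (π ⁻¹ᵁ V k.1))
    obtain ⟨z, hz⟩ := (Groth.QCohMod.pullSecTensor_bijective π G₁ (le_refl (π ⁻¹ᵁ V k.1))
      (hV k.1) (hW k.1)).2 ((kernel.ι e).app (π ⁻¹ᵁ V k.1) k.2.1)
    obtain ⟨m, b, x, rfl⟩ := TensorProduct.exists_sum_tmul_eq z
    refine ⟨m, b, x, hz.symm.trans ((map_sum _ _ _).trans (Finset.sum_congr rfl fun l _ => ?_))⟩
    rfl
  choose m b x hbx using hrep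
  -- the coefficients at a stage
  choose st sth bt hbt using fun l : Σ k : (Σ a : Fin n, T a), Fin (m k) =>
    exists_toLim_eq D c hc (hV l.1.1).isCompact (b l.1 l.2)
  obtain ⟨j, g, hj, hjg⟩ := exists_common st sth
  let πj : c.pt ⟶ D.obj j := c.π.app j
  let Gj := (Scheme.Modules.pullback (D.map g)).obj G₁
  have hGjq : Gj.IsQuasicoherent := Groth.QCohMod.isQCoh_pullback_obj (D.map g) G₁
  let θ : (Scheme.Modules.pullback πj).obj Gj ≅ P :=
    (Scheme.Modules.pullbackComp πj (D.map g)).app G₁ ≪≫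
      (Scheme.Modules.pullbackCongr (c.w g)).app G₁
  let e' : (Scheme.Modules.pullback πj).obj Gj ⟶ G := θ.hom ≫ e
  have he' : Epi e' := epi_comp _ _
  let a₀ := (Scheme.Modules.pullbackPushforwardAdjunction πj).homEquiv _ _ e'
  have : ((Scheme.Modules.pushforward πj).obj G).IsQuasicoherent :=
    Groth.QCohMod.isQCoh_pushforward G πj
  have hGj : Coh.IsCoh Gj :=
    ⟨hGjq, Groth.PropsBasic.LocFree.isFT_of_isFP Gj (Groth.QCohMod.isFP_pullback (D.map g) G₁ hG₁)⟩
  have hK₀ : Coh.IsCoh (kernel a₀) := Groth.QCohMod.isCoh_kernel a₀ hGj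
  have := hK₀.1
  refine ⟨j, g, cokernel (kernel.ι a₀), Groth.QCohMod.isCoh_cokernel _ hGj, ?_⟩
  -- the inverse image of the kernel hits the generators
  have hθ : ∀ (a : Fin n) (r : Γ(D.obj j, pre D g (V a))) (y : Γ(G₁, V a)),
      QCohMod.res P (lim_le D c g (V a))
        (θ.hom.app (πj ⁻¹ᵁ pre D g (V a)) (pullSec πj Gj (r • pullSec (D.map g) G₁ y))) =
      toLim D c g (V a) r • QCohMod.res P le_rfl (pullSec π G₁ y) := by
    intro a r y
    rw [pullSec_smul, Scheme.Modules.Hom.app_smul, QCohMod.res_smul, toLim, Scheme.Hom.appLE]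
    congr 1
    change QCohMod.res P _ (((Scheme.Modules.pullbackCongr (c.w g)).hom.app G₁).app _
      (((Scheme.Modules.pullbackComp πj (D.map g)).hom.app G₁).app _
        (pullSec πj Gj (pullSec (D.map g) G₁ y)))) = _
    refine (congrArg (QCohMod.res P (lim_le D c g (V a))) ((congrArg _
      (pullSec_comp πj (D.map g) G₁ y)).trans
        (Groth.CohCmpLib.pullbackCongr_pullSec (c.w g) G₁ y))).trans ?_
    exact QCohMod.res_res P _ _ _
  let t : ∀ k : Σ a : Fin n, T a, Γ(Gj, pre D g (V k.1)) := fun k =>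
    ∑ l, trans D (hj ⟨k, l⟩) (sth ⟨k, l⟩) g (hjg ⟨k, l⟩) (V k.1) (bt ⟨k, l⟩) •
      pullSec (D.map g) G₁ (x k l)
  have ht : ∀ k, QCohMod.res P (lim_le D c g (V k.1))
      (θ.hom.app (πj ⁻¹ᵁ pre D g (V k.1)) (pullSec πj Gj (t k))) =
      (kernel.ι e).app (π ⁻¹ᵁ V k.1) k.2.1 := by
    intro k
    change QCohMod.res P _ (θ.hom.app _ (Groth.CohBase.pullSecHom πj Gj _ (t k))) = _
    rw [map_sum, map_sum, map_sum, hbx k]
    refine Finset.sum_congr rfl fun l _ => (hθ k.1 _ _).trans ?_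
    rw [toLim_trans, hbt]
  have hw : (Scheme.Modules.pullback πj).map (kernel.ι a₀) ≫ e' = 0 := by
    apply ((Scheme.Modules.pullbackPushforwardAdjunction πj).homEquiv _ _).injective
    rw [Adjunction.homEquiv_naturality_left, kernel.condition]
    simp [Adjunction.homEquiv_unit]
  have hπW : ∀ a, π ⁻¹ᵁ V a = πj ⁻¹ᵁ pre D g (V a) := fun a => by
    rw [← Scheme.Hom.comp_preimage, c.w]
  let K₁ := (Scheme.Modules.pullback πj).obj (kernel a₀)
  have : K₁.IsQuasicoherent := Groth.QCohMod.isQCoh_pullback_obj πj _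
  let lam : K₁ ⟶ kernel e' := kernel.lift e' ((Scheme.Modules.pullback πj).map (kernel.ι a₀)) hw
  have : ((Scheme.Modules.pullback πj).obj Gj).IsQuasicoherent :=
    Groth.QCohMod.isQCoh_pullback_obj πj Gj
  have hepi : Epi lam := by
    refine Preadditive.epi_of_cokernel_zero
      (Groth.QCohMod.hom_eq_zero_of_cover _ (fun a => π ⁻¹ᵁ V a) hW hWcov fun a y => ?_)
    obtain ⟨y', hy'⟩ := Groth.QCohMod.kernel_exists_app e
      (W := π ⁻¹ᵁ V a) (θ.hom.app _ ((kernel.ι e').app (π ⁻¹ᵁ V a) y))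
      (congr(($(kernel.condition e')).app (π ⁻¹ᵁ V a) y))
    have hspan : y' ∈ Submodule.span Γ(c.pt, π ⁻¹ᵁ V a) (T a : Set _) := (hT a).ge trivial
    let L : Γ((kernel e' : c.pt.Modules), π ⁻¹ᵁ V a) →ₗ[Γ(c.pt, π ⁻¹ᵁ V a)]
        Γ(P, π ⁻¹ᵁ V a) := Groth.QCohMod.appₗ (kernel.ι e' ≫ θ.hom) (π ⁻¹ᵁ V a)
    suffices h : Submodule.span Γ(c.pt, π ⁻¹ᵁ V a) (T a : Set _) ≤
        Submodule.comap (Groth.QCohMod.appₗ (kernel.ι e) (π ⁻¹ᵁ V a))
          (Submodule.map L (LinearMap.range (Groth.QCohMod.appₗ lam (π ⁻¹ᵁ V a)))) by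
      obtain ⟨_, ⟨w, rfl⟩, hwy⟩ := h hspan
      have : Mono (kernel.ι e' ≫ θ.hom) := mono_comp _ _
      have hL : Function.Injective L := fun u v h =>
        Groth.QCohMod.app_injective_of_mono (kernel.ι e' ≫ θ.hom) _ h
      have : (Groth.QCohMod.appₗ lam (π ⁻¹ᵁ V a)) w = y := hL (hwy.trans hy')
      rw [← this]
      exact congr(($(cokernel.condition lam)).app (π ⁻¹ᵁ V a) w)
    refine Submodule.span_le.2 fun k hk => ?_
    obtain ⟨k', hk'⟩ := Groth.QCohMod.kernel_exists_app a₀ (t ⟨a, k, hk⟩) (by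
      rw [homEquiv_app]
      refine ((Groth.CohBase.qres_bijective_of_eq G (lim_le D c g (V a)) (hπW a).ge).1).eq_iff.1 ?_
      rw [map_zero]
      refine (Groth.QCohMod.res_app e (lim_le D c g (V a)) _).trans ?_
      refine (congrArg _ (ht ⟨a, k, hk⟩)).trans ?_
      exact congr(($(kernel.condition e)).app (π ⁻¹ᵁ V a) k))
    refine ⟨_, ⟨QCohMod.res K₁ (lim_le D c g (V a)) (pullSec πj _ k'), rfl⟩, ?_⟩
    refine Eq.trans ?_ (ht ⟨a, k, hk⟩)
    change θ.hom.app _ ((kernel.ι e').app _ (lam.app _ (QCohMod.res K₁ _ _))) = _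
    rw [show (kernel.ι e').app (π ⁻¹ᵁ V a) (lam.app _ (QCohMod.res K₁ (lim_le D c g (V a))
        (pullSec πj _ k'))) = ((Scheme.Modules.pullback πj).map (kernel.ι a₀)).app _
          (QCohMod.res K₁ (lim_le D c g (V a)) (pullSec πj _ k')) from
      congr(($(kernel.lift_ι e' _ hw)).app (π ⁻¹ᵁ V a) _)]
    rw [← Groth.QCohMod.res_app, ← Groth.QCohMod.res_app, Groth.PicAux.pullSec_map, hk']
  let Sc := ShortComplex.mk ((Scheme.Modules.pullback πj).map (kernel.ι a₀)) e' hw
  have hex : Sc.Exact := (ShortComplex.exact_iff_epi_kernel_lift Sc).2 hepi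
  have : Epi Sc.g := he'
  exact ⟨(Limits.PreservesCokernel.iso (Scheme.Modules.pullback πj) (kernel.ι a₀)).trans
    ((cokernelIsCokernel Sc.f).coconePointUniqueUpToIso hex.gIsCokernel)⟩

end Groth.CohC3.BC
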