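import Groth.Agent.CohC3.BC.Consequences

/-!
# Cohomology and base change on the whole base
-/

universe u

open CategoryTheory Limits AlgebraicGeometry TopologicalSpace Opposite
open scoped TensorProduct
open Groth.CohBase (preimageToSpec)
open Groth.FlatCxBase (fdim)

set_option maxHeartbeats 800000
set_option backward.isDefEq.respectTransparency false
set_option backward.defeqAttrib.useBackward true
set_option backward.isDefEq.respectTransparency.types false

namespace Groth.CohC3.BC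

/-- The rank is constant near a point of the free locus. -/
theorem exists_open_fdim_eq {A : Type u} [CommRing A] {N : Type u} [AddCommGroup N] [Module A N]
    [Module.FinitePresentation A N] {x : PrimeSpectrum A} (hx : x ∈ Module.freeLocus A N) :
    ∃ O : Set (PrimeSpectrum A), IsOpen O ∧ x ∈ O ∧
      ∀ z ∈ O, z ∈ Module.freeLocus A N ∧ fdim N z = fdim N x := by
  refine ⟨Subtype.val '' {z : Module.freeLocus A N |
      Module.rankAtStalk N z.1 = Module.rankAtStalk N x}, ?_, ⟨⟨x, hx⟩, rfl, rfl⟩, ?_⟩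
  · exact Module.isOpen_freeLocus.isOpenMap_subtype_val _
      ((Module.isLocallyConstant_rankAtStalk_freeLocus (R := A) (M := N))
        {Module.rankAtStalk N x})
  · rintro _ ⟨z, hz, rfl⟩
    refine ⟨z.2, ?_⟩
    rw [fdim_eq_rankAtStalk_of_mem z.2, fdim_eq_rankAtStalk_of_mem hx]
    exact hz

variable {X S : Scheme.{u}} {f : X ⟶ S} [IsProper f] [LocallyOfFinitePresentation f]
  {F : X.Modules} [F.IsQuasicoherent]

/-- A model near every point. -/
theorem exists_local (hfp : CohB1.IsFP F) (hfl : FlatMod.IsFlatOver f F) (y : S) :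
    ∃ (V : S.Opens) (_ : IsAffineOpen V)
      (_ : Model (preimageToSpec f (V := V)) (F.restrict (f ⁻¹ᵁ V).ι)), y ∈ V := by
  obtain ⟨V, hV, hy⟩ := Groth.QCohMod.exists_affine_mem y
  exact ⟨V, hV, (exists_model_preimage f hV F hfp hfl).some, hy⟩

/-- The locus where the fibre cohomology vanishes is open. -/
theorem exists_vanish_open (hfp : CohB1.IsFP F) (hfl : FlatMod.IsFlatOver f F) (p : ℕ) :
    ∃ U : S.Opens, ∀ s : S, s ∈ U ↔ Subsingleton (CohIII.fiberH f F s p) := by
  refine ⟨⟨{s | Subsingleton (CohIII.fiberH f F s p)}, isOpen_iff_forall_mem_open.2 fun s hs => ?_⟩,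
    fun _ => Iff.rfl⟩
  obtain ⟨V, hV, M, hy⟩ := exists_local hfp hfl s
  have := M.finitePresentation p
  have := M.finitePresentation (p + 1)
  obtain ⟨O, hO, hOo, hxO⟩ := eventually_nhds_iff.1
    ((Groth.FlatCxBase.eventually_fdim_le (M.Q p) (hV.primeIdealOf ⟨s, hy⟩)).and
      (Groth.FlatCxBase.eventually_fdim_le (M.Q (p + 1)) (hV.primeIdealOf ⟨s, hy⟩)))
  obtain ⟨a, hsa, -, ha⟩ := exists_basicOpen hV hy hOo hxO
  refine ⟨S.basicOpen a, fun z hz => ?_, (S.basicOpen a).2, hsa⟩
  have hzV := S.basicOpen_le a hz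
  have h1 := fiberRank_add hV M hy p
  have h2 := fiberRank_add hV M hzV p
  have h3 := hO _ (ha z hzV hz)
  have h4 := (subsingleton_iff_fiberRank hV M hy p).1 hs
  exact (subsingleton_iff_fiberRank hV M hzV p).2 (by omega)

/-- The fibre rank is constant near a point where both cokernels are free. -/
theorem exists_open_free_const (p : ℕ) {V : S.Opens} (hV : IsAffineOpen V)
    (M : Model (preimageToSpec f (V := V)) (F.restrict (f ⁻¹ᵁ V).ι)) {y : S} (hy : y ∈ V)
    (hp : hV.primeIdealOf ⟨y, hy⟩ ∈ Module.freeLocus Γ(S, V) (M.Q p))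
    (hp' : hV.primeIdealOf ⟨y, hy⟩ ∈ Module.freeLocus Γ(S, V) (M.Q (p + 1))) :
    ∃ W : S.Opens, y ∈ W ∧ ∀ z ∈ W, CohIII.fiberRank f F p z = CohIII.fiberRank f F p y ∧
      ∃ hz : z ∈ V, hV.primeIdealOf ⟨z, hz⟩ ∈ Module.freeLocus Γ(S, V) (M.Q p) ∧
        hV.primeIdealOf ⟨z, hz⟩ ∈ Module.freeLocus Γ(S, V) (M.Q (p + 1)) := by
  have := M.finitePresentation p
  have := M.finitePresentation (p + 1)
  obtain ⟨O, hOo, hxO, hO⟩ := exists_open_fdim_eq hp
  obtain ⟨O', hOo', hxO', hO'⟩ := exists_open_fdim_eq hp'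
  obtain ⟨a, hya, -, ha⟩ := exists_basicOpen hV hy (hOo.inter hOo') ⟨hxO, hxO'⟩
  refine ⟨S.basicOpen a, hya, fun z hz => ?_⟩
  have hzV := S.basicOpen_le a hz
  obtain ⟨h1, h2⟩ := ha z hzV hz
  refine ⟨?_, hzV, (hO _ h1).1, (hO' _ h2).1⟩
  have e1 := fiberRank_add hV M hy p
  have e2 := fiberRank_add hV M hzV p
  rw [(hO _ h1).2, (hO' _ h2).2] at e2
  omega

/-- Over a reduced base, constant fibre rank makes both cokernels free. -/
theorem mem_freeLocus_of_locallyConstant [IsReduced S] (p : ℕ)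
    (hlc : IsLocallyConstant (CohIII.fiberRank f F p)) {V : S.Opens} (hV : IsAffineOpen V)
    (M : Model (preimageToSpec f (V := V)) (F.restrict (f ⁻¹ᵁ V).ι)) {y : S} (hy : y ∈ V) :
    hV.primeIdealOf ⟨y, hy⟩ ∈ Module.freeLocus Γ(S, V) (M.Q p) ∧
      hV.primeIdealOf ⟨y, hy⟩ ∈ Module.freeLocus Γ(S, V) (M.Q (p + 1)) := by
  have := M.finitePresentation p
  have := M.finitePresentation (p + 1)
  have key : ∀ x z : PrimeSpectrum Γ(S, V), z ≤ x →
      fdim (M.Q p) z = fdim (M.Q p) x ∧ fdim (M.Q (p + 1)) z = fdim (M.Q (p + 1)) x := by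
    intro x z hzx
    obtain ⟨a, ha, rfl⟩ := Groth.CohBase.exists_primeIdealOf_eq hV x
    obtain ⟨b, hb, rfl⟩ := Groth.CohBase.exists_primeIdealOf_eq hV z
    have hs : b ⤳ a := by
      have := ((PrimeSpectrum.le_iff_specializes _ _).1 hzx).map hV.fromSpec.continuous
      rwa [hV.fromSpec_primeIdealOf, hV.fromSpec_primeIdealOf] at this
    have hr : CohIII.fiberRank f F p b = CohIII.fiberRank f F p a :=
      hs.mem_open (hlc {CohIII.fiberRank f F p a}) rfl
    have e1 := fiberRank_add hV M ha p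
    have e2 := fiberRank_add hV M hb p
    have h1 := Groth.FlatCxBase.fdim_le_of_le (M.Q p) hzx
    have h2 := Groth.FlatCxBase.fdim_le_of_le (M.Q (p + 1)) hzx
    omega
  have : _root_.IsReduced Γ(S, V) := IsReduced.component_reduced V
  have h1 := Groth.FlatCxBase.flat_of_fdim_eq (M.Q p) fun x _ z hz => (key x z hz).1
  have h2 := Groth.FlatCxBase.flat_of_fdim_eq (M.Q (p + 1)) fun x _ z hz => (key x z hz).2
  exact ⟨Module.freeLocus_eq_univ (R := Γ(S, V)) (M := M.Q p) ▸ trivial,
    Module.freeLocus_eq_univ (R := Γ(S, V)) (M := M.Q (p + 1)) ▸ trivial⟩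

variable [HasInjectiveResolutions X.Modules]
  {Δ : RDer.DerivedLES (Scheme.Modules.pushforward f)} {E : CohCmp.SectCmp f Δ}

include E in
/-- Local freeness of all higher direct images above `m` propagates to the cokernels. -/
theorem mem_freeLocus_of_locFree_above (m : ℕ)
    (hR : ∀ k, m < k → FlatMod.IsFinLocFree ((Coh.Rpush f k).obj F))
    {V : S.Opens} (hV : IsAffineOpen V)
    (M : Model (preimageToSpec f (V := V)) (F.restrict (f ⁻¹ᵁ V).ι)) {y : S} (hy : y ∈ V)
    (k : ℕ) (hk : m < k) : hV.primeIdealOf ⟨y, hy⟩ ∈ Module.freeLocus Γ(S, V) (M.Q k) := by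
  obtain ⟨b, hb⟩ := M.bdd
  suffices H : ∀ d k, m < k → b < k + d →
      hV.primeIdealOf ⟨y, hy⟩ ∈ Module.freeLocus Γ(S, V) (M.Q k) from H (b + 1) k hk (by omega)
  intro d
  induction d with
  | zero =>
    intro k _ hk'
    have := M.finitePresentation k
    have := hb k (by omega)
    exact Module.freeLocus_eq_univ (R := Γ(S, V)) (M := M.Q k) ▸ trivial
  | succ d ih =>
    intro k hk hk'
    exact mem_freeLocus_of_locFree (E := E) hV M hy k (W := V) hy
      (Groth.LocFree.isFinLocFree_restrict V.ι (hR k hk)) (ih (k + 1) (by omega) (by omega))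

end Groth.CohC3.BC
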