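import Groth.Agent.FlatCxBase.FlatAlg
import Mathlib.RingTheory.Spectrum.Prime.FreeLocus
import Mathlib.RingTheory.Flat.FaithfullyFlat.Algebra
import Mathlib.RingTheory.LocalRing.ResidueField.Ideal

/-!
# Exchange properties for the kernel of a map into a finite free module
-/

universe u

open scoped TensorProduct
open Groth.FlatCxBase (fdim kerBaseChangeEquiv)

namespace Groth.CohC3.BC

variable {A : Type u} [CommRing A] {Q P Q' : Type u} [AddCommGroup Q] [Module A Q] [AddCommGroup P]
  [Module A P] [AddCommGroup Q'] [Module A Q'] (f : Q →ₗ[A] P) {π : P →ₗ[A] Q'}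

/-- The base change map on kernels. -/
noncomputable def kerBC (B : Type u) [CommRing B] [Algebra A B] :
    B ⊗[A] LinearMap.ker f →ₗ[B] LinearMap.ker (f.baseChange B) :=
  ((LinearMap.ker f).subtype.baseChange B).codRestrict _ fun z =>
    LinearMap.mem_ker.2 <| by
      rw [← LinearMap.comp_apply, ← LinearMap.baseChange_comp,
        (LinearMap.exact_subtype_ker_map f).linearMap_comp_eq_zero]
      simp

variable {f}

lemma kerBC_coe {B : Type u} [CommRing B] [Algebra A B] (z : B ⊗[A] LinearMap.ker f) :
    (kerBC f B z).1 = (LinearMap.ker f).subtype.baseChange B z := rfl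

/-- The cokernel of `f`, from an exact pair. -/
noncomputable def cokerEquiv (hex : Function.Exact f π) (hπ : Function.Surjective π) :
    (P ⧸ LinearMap.range f) ≃ₗ[A] Q' :=
  (Submodule.quotEquivOfEq _ _ (LinearMap.exact_iff.1 hex).symm).trans
    (π.quotKerEquivOfSurjective hπ)

lemma exact_baseChange (hex : Function.Exact f π) (hπ : Function.Surjective π) (B : Type u)
    [CommRing B] [Algebra A B] : Function.Exact (f.baseChange B) (π.baseChange B) :=
  lTensor_exact B hex hπ

lemma surjective_baseChange (hπ : Function.Surjective π) (B : Type u)
    [CommRing B] [Algebra A B] : Function.Surjective (π.baseChange B) :=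
  LinearMap.lTensor_surjective B hπ

/-- With flat cokernel, the kernel commutes with base change. -/
theorem kerBC_bijective_of_flat (hex : Function.Exact f π) (hπ : Function.Surjective π)
    [Module.Flat A P] [Module.Flat A Q'] (B : Type u) [CommRing B] [Algebra A B] :
    Function.Bijective (kerBC f B) := by
  have : Module.Flat A (P ⧸ LinearMap.range f) := Module.Flat.of_linearEquiv (cokerEquiv hex hπ)
  exact (kerBaseChangeEquiv B f).bijective

/-- The kernel commutes with flat base change. -/
theorem kerBC_bijective_of_flat_algebra (B : Type u) [CommRing B] [Algebra A B] [Module.Flat A B] :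
    Function.Bijective (kerBC f B) := by
  refine ⟨fun z w h => Module.Flat.lTensor_preserves_injective_linearMap (M := B) _
    Subtype.val_injective (congrArg Subtype.val h), ?_⟩
  rintro ⟨y, hy⟩
  obtain ⟨z, hz⟩ := (Module.Flat.lTensor_exact B (LinearMap.exact_subtype_ker_map f) y).1 hy
  exact ⟨z, Subtype.ext hz⟩

section Tower

variable (C B : Type u) [CommRing C] [CommRing B] [Algebra A C] [Algebra A B] [Algebra C B]
  [IsScalarTower A C B]

/-- The cancellation isomorphism is compatible with base change of maps. -/
lemma cancel_baseChange {M N : Type u} [AddCommGroup M] [Module A M] [AddCommGroup N] [Module A N]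
    (g : M →ₗ[A] N) (z : B ⊗[C] (C ⊗[A] M)) :
    TensorProduct.AlgebraTensorModule.cancelBaseChange A C B B N ((g.baseChange C).baseChange B z) =
      g.baseChange B (TensorProduct.AlgebraTensorModule.cancelBaseChange A C B B M z) := by
  induction z using TensorProduct.induction_on with
  | zero => simp
  | add p q hp hq => simp only [map_add, hp, hq]
  | tmul b w =>
    induction w using TensorProduct.induction_on with
    | zero => simp
    | add p q hp hq => simp only [TensorProduct.tmul_add, map_add, hp, hq]
    | tmul a n => simp

/-- The kernel commutes with base change over a flat algebra with flat cokernel. -/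
theorem kerBC_bijective_of_tower (hex : Function.Exact f π) (hπ : Function.Surjective π)
    [Module.Flat A C] [Module.Flat A P] [Module.Flat C (C ⊗[A] Q')] :
    Function.Bijective (kerBC f B) := by
  let cQ := TensorProduct.AlgebraTensorModule.cancelBaseChange A C B B Q
  let cK := TensorProduct.AlgebraTensorModule.cancelBaseChange A C B B (LinearMap.ker f)
  let eC := LinearEquiv.ofBijective (kerBC f C) (kerBC_bijective_of_flat_algebra C)
  have hC := kerBC_bijective_of_flat (exact_baseChange hex hπ C) (surjective_baseChange hπ C) B
  have key : ∀ z : B ⊗[C] (C ⊗[A] LinearMap.ker f),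
      cQ (kerBC (f.baseChange C) B (eC.toLinearMap.baseChange B z)).1 = (kerBC f B (cK z)).1 := by
    intro z
    induction z using TensorProduct.induction_on with
    | zero => simp
    | add p q hp hq => simp only [map_add, Submodule.coe_add, hp, hq]
    | tmul b w =>
      rw [kerBC_coe, kerBC_coe, ← cancel_baseChange]
      rfl
  have hbij : Function.Bijective fun z =>
      kerBC (f.baseChange C) B (eC.toLinearMap.baseChange B z) :=
    hC.comp (TensorProduct.congr (LinearEquiv.refl C B) eC).bijective
  constructor
  · intro a b hab
    obtain ⟨a, rfl⟩ := cK.surjective a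
    obtain ⟨b, rfl⟩ := cK.surjective b
    refine congrArg cK (hbij.1 (Subtype.ext (cQ.injective ?_)))
    rw [key, key, hab]
  · intro y
    obtain ⟨z, hz⟩ := hbij.2 ⟨cQ.symm y.1, by
      rw [LinearMap.mem_ker]
      apply (TensorProduct.AlgebraTensorModule.cancelBaseChange A C B B P).injective
      rw [cancel_baseChange, LinearEquiv.apply_symm_apply, map_zero]
      exact y.2⟩
    refine ⟨cK z, Subtype.ext ?_⟩
    refine (key z).symm.trans ((congrArg (fun t => cQ t.1) hz).trans ?_)
    exact cQ.apply_symm_apply y.1

end Tower

section Field

variable (K : Type u) [Field K] [Algebra A K] (x : PrimeSpectrum A)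
  (hK : RingHom.ker (algebraMap A K) = x.asIdeal)
include hK

/-- Injectivity after base change to a field only depends on the prime. -/
theorem injective_residueField {M N : Type u} [AddCommGroup M] [Module A M] [AddCommGroup N]
    [Module A N] (g : M →ₗ[A] N) (h : Function.Injective (g.baseChange K)) :
    Function.Injective (g.baseChange x.asIdeal.ResidueField) := by
  let κ := x.asIdeal.ResidueField
  let ι : κ →+* K :=
    Ideal.ResidueField.lift x.asIdeal (algebraMap A K) hK.ge (fun r hr => by
      refine IsUnit.mk0 _ fun h => hr ?_
      rw [← hK]; exact h)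
  let := ι.toAlgebra
  have : IsScalarTower A κ K := .of_algebraMap_eq fun a =>
    (Ideal.ResidueField.lift_algebraMap _ _ _ _ a).symm
  have hinj : Function.Injective (TensorProduct.mk κ K (κ ⊗[A] M) 1) :=
    Module.FaithfullyFlat.tensorProduct_mk_injective _
  intro a b hab
  refine hinj ((TensorProduct.AlgebraTensorModule.cancelBaseChange A κ K K M).injective (h ?_))
  rw [← cancel_baseChange, ← cancel_baseChange]
  simp only [TensorProduct.mk_apply, LinearMap.baseChange_tmul]
  rw [show g.baseChange κ a = g.baseChange κ b from hab]

/-- A surjective base change map at a point puts it in the free locus of the cokernel. -/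
theorem mem_freeLocus_of_surjective (hex : Function.Exact f π) (hπ : Function.Surjective π)
    [Module.Finite A Q] [Module.Finite A P] [Module.Free A P]
    (hs : Function.Surjective (kerBC f K)) : x ∈ Module.freeLocus A Q' := by
  let I := LinearMap.range f
  have hI : Function.Injective (I.subtype.baseChange K) := by
    rw [← LinearMap.ker_eq_bot, LinearMap.ker_eq_bot']
    intro a ha
    obtain ⟨z, rfl⟩ := LinearMap.lTensor_surjective K f.surjective_rangeRestrict a
    have hz : f.baseChange K z = 0 := by
      rw [show f = I.subtype.comp f.rangeRestrict from rfl, LinearMap.baseChange_comp,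
        LinearMap.comp_apply]
      exact ha
    obtain ⟨w, hw⟩ := hs ⟨z, hz⟩
    rw [← show (LinearMap.ker f).subtype.baseChange K w = z from congrArg Subtype.val hw,
      LinearMap.baseChange_eq_ltensor, ← LinearMap.lTensor_comp_apply]
    rw [show f.rangeRestrict.comp (LinearMap.ker f).subtype = 0 from
      LinearMap.ext fun v => Subtype.ext v.2, LinearMap.lTensor_zero, LinearMap.zero_apply]
  have hκ := injective_residueField K x hK I.subtype hI
  let B := Localization.AtPrime x.asIdeal
  let k := IsLocalRing.ResidueField B
  rw [Module.mem_freeLocus_iff_tensor x B]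
  have : Module.Finite A I := Module.Finite.of_surjective _ f.surjective_rangeRestrict
  have hexI : Function.Exact I.subtype π := by
    rw [LinearMap.exact_iff, Submodule.range_subtype]
    exact LinearMap.exact_iff.1 hex
  refine Module.free_of_lTensor_residueField_injective (I.subtype.baseChange B) (π.baseChange B)
    (surjective_baseChange hπ B) (lTensor_exact B hexI hπ) ?_
  intro a b hab
  apply (TensorProduct.AlgebraTensorModule.cancelBaseChange A B k k I).injective
  apply hκ
  refine (cancel_baseChange B k I.subtype a).symm.trans
    (Eq.trans ?_ (cancel_baseChange B k I.subtype b))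
  exact congrArg _ hab

/-- Vanishing at a point puts it in the free loci of both cokernels. -/
theorem mem_freeLocus_of_ker_eq_bot (hex : Function.Exact f π) (hπ : Function.Surjective π)
    [Module.Finite A Q] [Module.Finite A P] [Module.Free A P]
    (h0 : LinearMap.ker (f.baseChange K) = ⊥) :
    x ∈ Module.freeLocus A Q' ∧ x ∈ Module.freeLocus A Q := by
  refine ⟨mem_freeLocus_of_surjective K x hK hex hπ fun y =>
    ⟨0, Subtype.ext (by rw [map_zero]; exact ((Submodule.mem_bot K).1 (h0.le y.2)).symm)⟩, ?_⟩
  have hκ := injective_residueField K x hK f (LinearMap.ker_eq_bot.1 h0)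
  let B := Localization.AtPrime x.asIdeal
  let k := IsLocalRing.ResidueField B
  rw [Module.mem_freeLocus_iff_tensor x B]
  have hk : Function.Injective ((f.baseChange B).lTensor k) := by
    intro a b hab
    apply (TensorProduct.AlgebraTensorModule.cancelBaseChange A B k k Q).injective
    apply hκ
    refine (cancel_baseChange B k f a).symm.trans (Eq.trans ?_ (cancel_baseChange B k f b))
    exact congrArg _ hab
  obtain ⟨r, hr⟩ := (IsLocalRing.split_injective_iff_lTensor_residueField_injective _).2 hk
  have : Module.Projective B (B ⊗[A] Q) := Module.Projective.of_split _ r hr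
  exact Module.free_of_flat_of_isLocalRing

omit hK in
/-- The dimension formula. -/
theorem finrank_ker_add (hex : Function.Exact f π) (hπ : Function.Surjective π)
    [Module.Finite A Q] [Module.Finite A P] :
    Module.finrank K (LinearMap.ker (f.baseChange K)) + Module.finrank K (K ⊗[A] P) =
      Module.finrank K (K ⊗[A] Q) + Module.finrank K (K ⊗[A] Q') := by
  set F := f.baseChange K
  have h1 := F.finrank_range_add_finrank_ker
  have h2 : Module.finrank K ((K ⊗[A] P) ⧸ LinearMap.range F) = Module.finrank K (K ⊗[A] Q') :=
    ((Submodule.quotEquivOfEq _ _ (LinearMap.exact_iff.1 (exact_baseChange hex hπ K)).symm).trans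
      ((π.baseChange K).quotKerEquivOfSurjective (surjective_baseChange hπ K))).finrank_eq
  have h3 := (LinearMap.range F).finrank_quotient_add_finrank
  omega

end Field

/-- With flat cokernel the kernel is a finitely generated projective iff `Q` is projective. -/
theorem ker_finite_projective (hex : Function.Exact f π) (hπ : Function.Surjective π)
    [Module.Finite A Q] [Module.Projective A Q] [Module.Projective A P] [Module.Projective A Q'] :
    Module.Finite A (LinearMap.ker f) ∧ Module.Projective A (LinearMap.ker f) := by
  obtain ⟨s, hs⟩ := Module.projective_lifting_property π LinearMap.id hπ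
  let r : P →ₗ[A] LinearMap.range f := (LinearMap.id - s.comp π).codRestrict _ fun v => by
    rw [← (LinearMap.exact_iff.1 hex), LinearMap.mem_ker, LinearMap.sub_apply, map_sub]
    simp [show π (s (π v)) = π v from LinearMap.congr_fun hs (π v)]
  have hr : r.comp (LinearMap.range f).subtype = LinearMap.id := by
    refine LinearMap.ext fun v => Subtype.ext ?_
    change v.1 - s (π v.1) = v.1
    rw [show π v.1 = 0 from (hex v.1).2 v.2, map_zero, sub_zero]
  have : Module.Projective A (LinearMap.range f) := Module.Projective.of_split _ r hr
  obtain ⟨t, ht⟩ := Module.projective_lifting_property f.rangeRestrict LinearMap.id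
    f.surjective_rangeRestrict
  let e : Q →ₗ[A] LinearMap.ker f := (LinearMap.id - t.comp f.rangeRestrict).codRestrict _ fun v => by
    rw [LinearMap.mem_ker, LinearMap.sub_apply, map_sub]
    simp [show f (t (f.rangeRestrict v)) = f v from
      congrArg Subtype.val (LinearMap.congr_fun ht (f.rangeRestrict v))]
  have he : e.comp (LinearMap.ker f).subtype = LinearMap.id := by
    refine LinearMap.ext fun v => Subtype.ext ?_
    change v.1 - t (f.rangeRestrict v.1) = v.1
    rw [show f.rangeRestrict v.1 = 0 from Subtype.ext v.2, map_zero, sub_zero]
  exact ⟨Module.Finite.of_surjective e fun v => ⟨v.1, LinearMap.congr_fun he v⟩,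
    Module.Projective.of_split _ e he⟩

/-- A flat kernel and flat cokernel force `Q` to be flat. -/
theorem flat_of_ker (hex : Function.Exact f π) (hπ : Function.Surjective π) [Module.Flat A P]
    [Module.Flat A Q'] [Module.Flat A (LinearMap.ker f)] : Module.Flat A Q := by
  have hex' : Function.Exact (LinearMap.range f).subtype π := by
    rw [LinearMap.exact_iff, Submodule.range_subtype]
    exact LinearMap.exact_iff.1 hex
  have : Module.Flat A (LinearMap.range f) := by
    refine Module.Flat.iff_lTensor_preserves_injective_linearMap.2 fun M N _ _ _ _ g hg => ?_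
    refine Function.Injective.of_comp (f := (LinearMap.range f).subtype.rTensor N) ?_
    rw [← LinearMap.coe_comp, LinearMap.rTensor_comp_lTensor, ← LinearMap.lTensor_comp_rTensor,
      LinearMap.coe_comp]
    refine (Module.Flat.lTensor_preserves_injective_linearMap g hg).comp ?_
    rw [← LinearMap.lTensor_inj_iff_rTensor_inj]
    exact LinearMap.lTensor_injective_of_exact_of_flat π hπ _ Subtype.val_injective hex' M
  refine Groth.FlatCxBase.flat_of_exact_flat_right (f := (LinearMap.ker f).subtype)
    (g := f.rangeRestrict) Subtype.val_injective f.surjective_rangeRestrict ?_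
  rw [LinearMap.exact_iff, LinearMap.ker_rangeRestrict, Submodule.range_subtype]

end Groth.CohC3.BC
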