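import Groth.Agent.CohCmpLib.PullMod
import Groth.Agent.CohBase.CechCx
import Groth.Agent.PicAux.Pullback

/-!
# Pullback of cohomology on classes of Čech cocycles
-/

universe u

open CategoryTheory Limits AlgebraicGeometry TopologicalSpace Opposite
open scoped TensorProduct
open Groth.CohBase
open Groth.QCohMod (resFun res_app)
open Groth.PicAux (pullSec res_pullSec pullSec_smul)

set_option maxHeartbeats 800000
set_option backward.isDefEq.respectTransparency false
set_option backward.defeqAttrib.useBackward true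
set_option backward.isDefEq.respectTransparency.types false

namespace Groth.CohC3.BC

section Cochains

variable {Y Y' : Scheme.{u}} (h : Y' ⟶ Y) {ι : Type u} (U : ι → Y.Opens) {G : Y.Modules}
  {G' : Y'.Modules} (f₀ : (Scheme.Modules.pullback h).obj G ⟶ G')

lemma pullCs_le (W : Y.Opens) {n : ℕ} (x : Fin (n + 1) → ι) :
    h ⁻¹ᵁ W ⊓ tupOpen (fun i => h ⁻¹ᵁ U i) x ≤ h ⁻¹ᵁ (W ⊓ tupOpen U x) :=
  le_inf inf_le_left (inf_le_right.trans (tupOpen_preimage h x).le)

/-- Inverse image of Čech cochains. -/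
noncomputable def pullCsSec (n : ℕ) (W : Y.Opens) :
    CsSec U G n W →+ CsSec (fun i => h ⁻¹ᵁ U i) G' n (h ⁻¹ᵁ W) :=
  AddMonoidHom.mk' (fun s x => QCohMod.res G' (pullCs_le h U W x)
      (f₀.app (h ⁻¹ᵁ (W ⊓ tupOpen U x)) (pullSec h G (s x))))
    fun s t => funext fun x => by
      change QCohMod.res G' _ (f₀.app _ (pullSecHom h G _ (s x + t x))) = _
      rw [map_add, map_add, map_add]
      rfl

lemma pullCsSec_apply (n : ℕ) (W : Y.Opens) (s : CsSec U G n W) (x : Fin (n + 1) → ι) :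
    pullCsSec h U f₀ n W s x = QCohMod.res G' (pullCs_le h U W x)
      (f₀.app (h ⁻¹ᵁ (W ⊓ tupOpen U x)) (pullSec h G (s x))) := rfl

/-- Restriction commutes with inverse image followed by a map. -/
lemma app_pullSec_res {V W : Y.Opens} (hVW : V ≤ W) (m : Γ(G, W)) {Z : Y'.Opens}
    (hZ : Z ≤ h ⁻¹ᵁ V) :
    QCohMod.res G' hZ (f₀.app (h ⁻¹ᵁ V) (pullSec h G (QCohMod.res G hVW m))) =
      QCohMod.res G' (hZ.trans (h.preimage_mono hVW)) (f₀.app (h ⁻¹ᵁ W) (pullSec h G m)) := by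
  have e : pullSec h G (QCohMod.res G hVW m) =
      QCohMod.res _ (h.preimage_mono hVW) (pullSec h G m) := (res_pullSec h G hVW m).symm
  rw [e, ← res_app, QCohMod.res_res]

/-- Inverse image of Čech cochains as a map of sheaves. -/
noncomputable def pullCsMap (n : ℕ) :
    (toAbF Y).obj (csMod U G n) ⟶
      (CohTop.push h.base).obj ((toAbF Y').obj (csMod (fun i => h ⁻¹ᵁ U i) G' n)) :=
  ⟨{ app := fun W => AddCommGrpCat.ofHom (pullCsSec h U f₀ n W.unop)
     naturality := fun W W' i => by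
      refine AddCommGrpCat.ext fun (s : CsSec U G n W.unop) => funext fun x => ?_
      change QCohMod.res G' _ (f₀.app _ (pullSec h G (QCohMod.res G _ (s x)))) =
        QCohMod.res G' _ (QCohMod.res G' _ (f₀.app _ (pullSec h G (s x))))
      rw [QCohMod.res_res, app_pullSec_res] }⟩

lemma pullCsMap_app (n : ℕ) (W : Y.Opens) (s : CsSec U G n W) :
    (show CsSec (fun i => h ⁻¹ᵁ U i) G' n (h ⁻¹ᵁ W) from
      (pullCsMap h U f₀ n).hom.app (op W) s) = pullCsSec h U f₀ n W s := rfl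

lemma pullCsSec_csd (n : ℕ) (W : Y.Opens) (s : CsSec U G n W) :
    pullCsSec h U f₀ (n + 1) W (csd U G n W s) =
      csd (fun i => h ⁻¹ᵁ U i) G' n (h ⁻¹ᵁ W) (pullCsSec h U f₀ n W s) := by
  funext x
  rw [pullCsSec_apply, csd_apply, csd_apply]
  change QCohMod.res G' _ (f₀.app _ (pullSecHom h G _ (∑ a : Fin (n + 2), _))) = _
  rw [map_sum, map_sum, map_sum]
  refine Finset.sum_congr rfl fun a _ => ?_
  rw [map_zsmul, map_zsmul, map_zsmul]
  congr 1
  rw [pullCsSec_apply, QCohMod.res_res]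
  exact app_pullSec_res h f₀ _ _ _

/-- Pullback of Čech classes: the class of the pulled back cochain. -/
theorem pullMod_cechClass (hcov : ⨆ i, U i = ⊤) (p : ℕ) (z : (cechRes U G hcov).Cyc ⊤ p)
    (z' : (cechRes (fun i => h ⁻¹ᵁ U i) G' (preimage_iSup_eq_top h hcov)).Cyc ⊤ p)
    (hz : z'.1 = pullCsSec h U f₀ p ⊤ z.1) :
    CohPull.mapH f₀ p (CohPull.pullMod h G p (Res.clsTop (cechRes U G hcov) p z)) =
      Res.clsTop (cechRes (fun i => h ⁻¹ᵁ U i) G' (preimage_iSup_eq_top h hcov)) p z' := by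
  refine Groth.CohCmpLib.pullMod_clsTop h (cechRes U G hcov)
    (cechRes (fun i => h ⁻¹ᵁ U i) G' (preimage_iSup_eq_top h hcov)) f₀
    (fun n => pullCsMap h U f₀ n) (fun n => ?_) ?_ p z z' hz
  · refine CategoryTheory.Sheaf.hom_ext (NatTrans.ext (funext fun W => AddCommGrpCat.ext
      fun (s : CsSec U G n W.unop) => ?_))
    exact pullCsSec_csd h U f₀ n W.unop s
  · refine CategoryTheory.Sheaf.hom_ext (NatTrans.ext (funext fun W => AddCommGrpCat.ext
      fun (m : Γ(G, W.unop)) => funext fun x => ?_))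
    change QCohMod.res G' _ (f₀.app _ (pullSec h G (QCohMod.res G inf_le_left m))) = _
    rw [app_pullSec_res]
    refine Eq.trans ?_ (congrArg (fun t => (show CsSec (fun i => h ⁻¹ᵁ U i) G' 0 (h ⁻¹ᵁ W.unop)
      from t) x) (congr(($(Adjunction.homEquiv_unit
        (Scheme.Modules.pullbackPushforwardAdjunction h) _ _ (f₀ ≫ csι (fun i => h ⁻¹ᵁ U i) G'))).app
          W.unop m)).symm)
    exact (csι_app (fun i => h ⁻¹ᵁ U i) G' (h ⁻¹ᵁ W.unop) (f₀.app _ (pullSec h G m)) x).symm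

end Cochains

section SecModel

variable {A : Type u} [CommRing A] {X₀ : Scheme.{u}} [X₀.Over (Spec (CommRingCat.of A))]
  {ι : Type u} {U : ι → X₀.Opens} {F : X₀.Modules}
  {M : Type u} [AddCommGroup M] [Module A M] {M' : Type u} [AddCommGroup M'] [Module A M']
  {Y Y' : Scheme.{u}} {g : Y ⟶ X₀} {G : Y.Modules} (h : Y' ⟶ Y) {G' : Y'.Modules}
  (Ψ : SecModel A U F M g G) (Ψ' : SecModel A U F M' (h ≫ g) G') [Finite ι]
  [G.IsQuasicoherent] [G'.IsQuasicoherent]

/-- Pullback on cohomology corresponds to the map of tensored Čech complexes. -/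
theorem pullMod_cycToHH (hcov : ⨆ i, U i = ⊤) (f₀ : (Scheme.Modules.pullback h).obj G ⟶ G')
    (φ : M →ₗ[A] M')
    (comm : ∀ (W : X₀.Opens) (z : secA A F W ⊗[A] M),
      f₀.app (h ⁻¹ᵁ g ⁻¹ᵁ W) (pullSec h G (Ψ.Φ W z)) = Ψ'.Φ W (φ.lTensor (secA A F W) z))
    (p : ℕ) (z : LinearMap.ker (((cxA A U F).d (p : ℤ) ((p : ℤ) + 1)).hom.rTensor M))
    (z' : LinearMap.ker (((cxA A U F).d (p : ℤ) ((p : ℤ) + 1)).hom.rTensor M'))
    (hz : z'.1 = φ.lTensor ((cxA A U F).X (p : ℤ)) z.1) :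
    CohPull.mapH f₀ p (CohPull.pullMod h G p (Ψ.cycToHH hcov p z)) = Ψ'.cycToHH hcov p z' := by
  rw [SecModel.cycToHH_apply, SecModel.cycToHH_apply]
  refine pullMod_cechClass h (fun i => g ⁻¹ᵁ U i) f₀ (preimage_iSup_eq_top g hcov) p _
    ⟨Ψ'.toTop p z'.1, Ψ'.toTop_mem_cyc hcov z'⟩ (funext fun x => ?_)
  rw [pullCsSec_apply]
  have key : ∀ w : cxC A U F p ⊗[A] M, Ψ'.toTop p (φ.lTensor (cxC A U F p) w) x =
      QCohMod.res G' (pullCs_le h (fun i => g ⁻¹ᵁ U i) ⊤ x)
        (f₀.app (h ⁻¹ᵁ (⊤ ⊓ tupOpen (fun i => g ⁻¹ᵁ U i) x))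
          (pullSec h G (Ψ.toTop p w x))) := by
    intro w
    rw [SecModel.toTop_apply, SecModel.toTop_apply, app_pullSec_res, ← LinearMap.comp_apply,
      LinearMap.rTensor_comp_lTensor, ← LinearMap.lTensor_comp_rTensor, LinearMap.comp_apply, ← comm]
    rfl
  exact (congrFun (congrArg (Ψ'.toTop p) hz) x).trans (key z.1)

end SecModel

end Groth.CohC3.BC
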