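import Groth.Agent.CohC3.BC.CechPull
import Groth.Agent.CohBase.BaseChangeModel
import Groth.Agent.CohBase.LocalModel
import Groth.Agent.CohFin.Linear

/-!
# Cohomology of base changes from a finite complex, on representatives
-/

universe u

open CategoryTheory Limits AlgebraicGeometry TopologicalSpace Opposite HomologicalComplex
open scoped TensorProduct
open Groth.CohBase Groth.CohBase.CxRank Groth.FlatCxBase
open Groth.QCohMod (resFun res_app)
open Groth.PicAux (pullSec)

set_option maxHeartbeats 800000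
set_option backward.isDefEq.respectTransparency false
set_option backward.defeqAttrib.useBackward true
set_option backward.isDefEq.respectTransparency.types false

namespace Groth.CohC3.BC

section Algebra

variable {A : Type u} [CommRing A] {K C : CochainComplex (ModuleCat.{u} A) ℤ}

lemma rTensor_map_mem_ker (φ : K ⟶ C) (j k : ℤ) (M : ModuleCat.{u} A)
    (w : LinearMap.ker ((K.d j k).hom.rTensor M)) :
    (φ.f j).hom.rTensor M w.1 ∈ LinearMap.ker ((C.d j k).hom.rTensor M) := by
  rw [LinearMap.mem_ker, ← LinearMap.rTensor_comp_apply, ← ModuleCat.hom_comp, φ.comm,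
    ModuleCat.hom_comp, LinearMap.rTensor_comp_apply, LinearMap.mem_ker.1 w.2, map_zero]

/-- Images of cycles of the tensored complex. -/
noncomputable def mapCyc (φ : K ⟶ C) (j k : ℤ) (M : ModuleCat.{u} A) :
    LinearMap.ker ((K.d j k).hom.rTensor M) →ₗ[A] LinearMap.ker ((C.d j k).hom.rTensor M) :=
  (((φ.f j).hom.rTensor M).comp (LinearMap.ker ((K.d j k).hom.rTensor M)).subtype).codRestrict _
    (rTensor_map_mem_ker φ j k M)

lemma mapCyc_coe (φ : K ⟶ C) (j k : ℤ) (M : ModuleCat.{u} A)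
    (w : LinearMap.ker ((K.d j k).hom.rTensor M)) :
    (mapCyc φ j k M w).1 = (φ.f j).hom.rTensor M w.1 := rfl

variable (φ : K ⟶ C)
  (hq : ∀ M : ModuleCat.{u} A, QuasiIso (((MonoidalCategory.tensorRight M).mapHomologicalComplex
    (ComplexShape.up ℤ)).map φ))

lemma tFunIso_clsT' (j : ℤ) {k : ℤ} (hk : (ComplexShape.up ℤ).next j = k) (M : ModuleCat.{u} A)
    (w : LinearMap.ker ((K.d j k).hom.rTensor M)) :
    ((tFunIso φ j hq).app M).hom (clsT K hk M w) = clsT C hk M (mapCyc φ j k M w) := by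
  subst hk
  exact homologyMap_cls (((MonoidalCategory.tensorRight M).mapHomologicalComplex
    (ComplexShape.up ℤ)).map φ) j w

lemma tFunIso_clsT (j : ℤ) (M : ModuleCat.{u} A)
    (w : LinearMap.ker ((K.d j (j + 1)).hom.rTensor M)) :
    ((tFunIso φ j hq).app M).hom (clsT K (cochain_next j) M w) =
      clsT C (cochain_next j) M (mapCyc φ j (j + 1) M w) :=
  tFunIso_clsT' φ hq j (cochain_next j) M w

/-- The kernel of the differential out of the cokernel, as `T_j` of a quasi-isomorphic complex. -/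
noncomputable def qKerEquiv (j : ℤ) (M : ModuleCat.{u} A) :
    LinearMap.ker ((dq K j).rTensor M) ≃ₗ[A] (CohIII.TFun C j).obj M :=
  (tKerEquiv K M j).symm.trans ((tFunIso φ j hq).app M).toLinearEquiv

lemma qKerEquiv_cycToKer (j : ℤ) (M : ModuleCat.{u} A)
    (w : LinearMap.ker ((K.d j (j + 1)).hom.rTensor M)) :
    qKerEquiv φ hq j M (cycToKer K M j w) =
      clsT C (cochain_next j) M (mapCyc φ j (j + 1) M w) := by
  rw [← tKerEquiv_clsT, qKerEquiv, LinearEquiv.trans_apply, LinearEquiv.symm_apply_apply]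
  exact tFunIso_clsT φ hq j M w

variable {B : Type u} [CommRing B] [Algebra A B] {N P : Type u} [AddCommGroup N] [Module A N]
  [AddCommGroup P] [Module A P]

lemma comm_baseChange (f : N →ₗ[A] P) (z : B ⊗[A] N) :
    f.rTensor B (TensorProduct.comm A B N z) = TensorProduct.comm A B P (f.baseChange B z) := by
  induction z using TensorProduct.induction_on with
  | zero => simp
  | tmul a n => rfl
  | add p q hp hq => simp [hp, hq]

lemma comm_smul (b : B) (z : B ⊗[A] N) :
    TensorProduct.comm A B N (b • z) =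
      (LinearMap.mul A B b).lTensor N (TensorProduct.comm A B N z) := by
  induction z using TensorProduct.induction_on with
  | zero => simp
  | tmul a n => rfl
  | add p q hp hq => simp [hp, hq]

/-- The two spellings of the kernel of a base changed map. -/
noncomputable def kerCommEquiv (f : N →ₗ[A] P) :
    LinearMap.ker (f.baseChange B) ≃+ LinearMap.ker (f.rTensor B) where
  toFun z := ⟨TensorProduct.comm A B N z.1, by
    rw [LinearMap.mem_ker, comm_baseChange, show f.baseChange B z.1 = 0 from z.2, map_zero]⟩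
  invFun w := ⟨(TensorProduct.comm A B N).symm w.1, by
    rw [LinearMap.mem_ker]
    apply (TensorProduct.comm A B P).injective
    rw [← comm_baseChange, LinearEquiv.apply_symm_apply, map_zero]
    exact w.2⟩
  left_inv z := Subtype.ext ((TensorProduct.comm A B N).symm_apply_apply z.1)
  right_inv w := Subtype.ext ((TensorProduct.comm A B N).apply_symm_apply w.1)
  map_add' _ _ := Subtype.ext (map_add (TensorProduct.comm A B N) _ _)

lemma kerCommEquiv_coe (f : N →ₗ[A] P) (z : LinearMap.ker (f.baseChange B)) :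
    (kerCommEquiv f z).1 = TensorProduct.comm A B N z.1 := rfl

end Algebra

/-- Isomorphisms of modules are bijective on sections. -/
lemma bijective_app_of_iso {Y : Scheme.{u}} {M N : Y.Modules} (e : M ≅ N) (U : Y.Opens) :
    Function.Bijective (e.hom.app U) :=
  ⟨fun a b h => (congr(($(e.hom_inv_id)).app U a)).symm.trans
    ((congrArg (e.inv.app U) h).trans (congr(($(e.hom_inv_id)).app U b))),
    fun t => ⟨e.inv.app U t, congr(($(e.inv_hom_id)).app U t)⟩⟩

section Geometry

variable {A : Type u} [CommRing A] {X₀ : Scheme.{u}} [X₀.Over (Spec (CommRingCat.of A))]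
  [X₀.IsSeparated] (G : GoodCover X₀) (F : X₀.Modules) [F.IsQuasicoherent]
  {B : Type u} [CommRing B] [Algebra A B] {Y : Scheme.{u}} [Y.Over (Spec (CommRingCat.of B))]
  {g : Y ⟶ X₀} (hsq : IsBC (A := A) (A' := B) g) {N : Y.Modules}
  (θ : (Scheme.Modules.pullback g).obj F ≅ N)

/-- The sections model of a module isomorphic to an inverse image. -/
noncomputable def modelOf : SecModel A G.U F B g N where
  Φ W := AddMonoidHom.mk' (fun z => θ.hom.app (g ⁻¹ᵁ W) ((bcModel hsq F G).Φ W z))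
    fun z w => by rw [map_add, map_add]
  nat {V W} h z := by
    change QCohMod.res N _ (θ.hom.app (g ⁻¹ᵁ W) (bcSec hsq F W z)) =
      θ.hom.app (g ⁻¹ᵁ V) (bcSec hsq F V _)
    rw [res_app, bcSec_res]
  bij x := (bijective_app_of_iso θ (g ⁻¹ᵁ tupOpen G.U x)).comp ((bcModel hsq F G).bij x)

lemma modelOf_apply (W : X₀.Opens) (z : secA A F W ⊗[A] B) :
    (modelOf G F hsq θ).Φ W z = θ.hom.app (g ⁻¹ᵁ W) (bcSec hsq F W z) := rfl

variable [N.IsQuasicoherent] {L : CochainComplex (ModuleCat.{u} A) ℤ} (φL : L ⟶ cxA A G.U F)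
  (hq : ∀ M : ModuleCat.{u} A, QuasiIso (((MonoidalCategory.tensorRight M).mapHomologicalComplex
    (ComplexShape.up ℤ)).map φL))

include hq in
/-- The cohomology of the base change as the kernel of the differential of the finite complex, with
the value on representatives. -/
theorem exists_linEquiv (p : ℕ) :
    ∃ e : LinearMap.ker ((dq L (p : ℤ)).baseChange B) ≃ₗ[B]
        CohFin.HA (Y ↘ Spec (CommRingCat.of B)) N p,
      ∀ (z : LinearMap.ker ((dq L (p : ℤ)).baseChange B))
        (w : LinearMap.ker ((L.d (p : ℤ) ((p : ℤ) + 1)).hom.rTensor B)),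
        TensorProduct.comm A B (Qc L (p : ℤ)) z.1 = (cokerπ L ((p : ℤ) - 1) p).rTensor B w.1 →
          e z = (modelOf G F hsq θ).cycToHH G.hcov p
            (mapCyc φL (p : ℤ) ((p : ℤ) + 1) (ModuleCat.of A B) w) := by
  let Ψ := modelOf G F hsq θ
  obtain ⟨e₁, he₁⟩ := Ψ.exists_hhEquiv G.hcov (bc_affine hsq G) (bc_affine_inf hsq G) p
  let K := ModuleCat.of A B
  let e₀ : LinearMap.ker ((dq L (p : ℤ)).baseChange B) ≃+
      CohFin.HA (Y ↘ Spec (CommRingCat.of B)) N p :=
    (kerCommEquiv (dq L (p : ℤ))).trans ((qKerEquiv φL hq (p : ℤ) K).toAddEquiv.trans e₁)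
  have key : ∀ (z : LinearMap.ker ((dq L (p : ℤ)).baseChange B))
      (w : LinearMap.ker ((L.d (p : ℤ) ((p : ℤ) + 1)).hom.rTensor B)),
      TensorProduct.comm A B (Qc L (p : ℤ)) z.1 = (cokerπ L ((p : ℤ) - 1) p).rTensor B w.1 →
        e₀ z = Ψ.cycToHH G.hcov p (mapCyc φL (p : ℤ) ((p : ℤ) + 1) K w) := by
    intro z w h
    change e₁ (qKerEquiv φL hq (p : ℤ) K (kerCommEquiv (dq L (p : ℤ)) z)) = _
    rw [show kerCommEquiv (dq L (p : ℤ)) z = cycToKer L K (p : ℤ) w from Subtype.ext h,
      qKerEquiv_cycToKer, he₁]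
  refine ⟨e₀.toLinearEquiv fun b z => ?_, key⟩
  obtain ⟨w, hw⟩ := cycToKer_surjective L K (p : ℤ) (kerCommEquiv (dq L (p : ℤ)) z)
  have hw' : TensorProduct.comm A B (Qc L (p : ℤ)) z.1 =
      (cokerπ L ((p : ℤ) - 1) p).rTensor B w.1 := (congrArg Subtype.val hw).symm
  let t := LinearMap.mul A B b
  let w' : LinearMap.ker ((L.d (p : ℤ) ((p : ℤ) + 1)).hom.rTensor K) :=
    ⟨t.lTensor (L.X (p : ℤ)) w.1, lTensor_mem_ker L K (ModuleCat.ofHom t) w⟩
  have hb : TensorProduct.comm A B (Qc L (p : ℤ)) (b • z).1 =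
      (cokerπ L ((p : ℤ) - 1) p).rTensor B w'.1 := by
    rw [SetLike.val_smul, comm_smul, hw']
    exact lTensor_rTensor (cokerπ L ((p : ℤ) - 1) p) t w.1
  rw [key _ _ hb, key z w hw']
  refine SecModel.cycToHH_smul Ψ G.hcov t (Coh.toGlobal (Y ↘ Spec (CommRingCat.of B)) b)
    (fun W v => ?_) p _ _ ?_
  · change θ.hom.app (g ⁻¹ᵁ W) (bcSec hsq F W (t.lTensor _ v)) = _
    rw [bcSec_smul, Scheme.Modules.Hom.app_smul]
    rfl
  · exact (lTensor_rTensor (φL.f (p : ℤ)).hom t w.1).symm

variable {C : Type u} [CommRing C] [Algebra A C] {Y' : Scheme.{u}}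
  [Y'.Over (Spec (CommRingCat.of C))] (h : Y' ⟶ Y) {N' : Y'.Modules} [N'.IsQuasicoherent]
  (hsq' : IsBC (A := A) (A' := C) (h ≫ g))
  (θ' : (Scheme.Modules.pullback (h ≫ g)).obj F ≅ N') (ψ : B →ₐ[A] C)
  (w₀ : h ≫ (Y ↘ Spec (CommRingCat.of B)) =
    (Y' ↘ Spec (CommRingCat.of C)) ≫ Spec.map (CommRingCat.ofHom ψ.toRingHom))

include w₀ in
lemma app_toSec_hom (W : Y.Opens) (b : B) :
    h.app W (toSec B W b) = toSec C (h ⁻¹ᵁ W) (ψ b) := by
  have e : ∀ a, h.appTop (Coh.toGlobal (Y ↘ Spec (CommRingCat.of B)) a) =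
      Coh.toGlobal (Y' ↘ Spec (CommRingCat.of C)) (ψ a) := by
    intro a
    have h1 := congr($(congrArg Scheme.Hom.appTop w₀) ((Scheme.ΓSpecIso (CommRingCat.of B)).inv a))
    have h2 := congr($(Scheme.ΓSpecIso_inv_naturality (CommRingCat.ofHom ψ.toRingHom)) a)
    refine h1.trans ?_
    exact congrArg (Y' ↘ Spec (CommRingCat.of C)).appTop h2.symm
  change h.app W (resFun Y le_top (Coh.toGlobal _ b)) = resFun Y' le_top (Coh.toGlobal _ (ψ b))
  rw [← e b]
  exact congr($(h.naturality (homOfLE (le_top : W ≤ ⊤)).op) (Coh.toGlobal _ b))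

include w₀ in
/-- Pullback of cohomology between two base changes, on representatives. -/
theorem mapH_pullMod_cycToHH (f₀ : (Scheme.Modules.pullback h).obj N ⟶ N')
    (hf : ∀ (W : X₀.Opens) (m : Γ(F, W)),
      f₀.app (h ⁻¹ᵁ g ⁻¹ᵁ W) (pullSec h N (θ.hom.app (g ⁻¹ᵁ W) (pullSec g F m))) =
        θ'.hom.app ((h ≫ g) ⁻¹ᵁ W) (pullSec (h ≫ g) F m))
    (p : ℕ) (z : LinearMap.ker (((cxA A G.U F).d (p : ℤ) ((p : ℤ) + 1)).hom.rTensor B))
    (z' : LinearMap.ker (((cxA A G.U F).d (p : ℤ) ((p : ℤ) + 1)).hom.rTensor C))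
    (hz : z'.1 = ψ.toLinearMap.lTensor ((cxA A G.U F).X (p : ℤ)) z.1) :
    CohPull.mapH f₀ p (CohPull.pullMod h N p ((modelOf G F hsq θ).cycToHH G.hcov p z)) =
      (modelOf G F hsq' θ').cycToHH G.hcov p z' := by
  refine pullMod_cycToHH h (modelOf G F hsq θ) (modelOf G F hsq' θ') G.hcov f₀ ψ.toLinearMap
    (fun W v => ?_) p z z' hz
  induction v using TensorProduct.induction_on with
  | zero =>
    rw [map_zero, map_zero, map_zero]
    exact (congrArg _ (map_zero (pullSecHom h N _))).trans (map_zero _)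
  | add v v' hv hv' =>
    rw [map_add, map_add, map_add]
    exact ((congrArg _ (map_add (pullSecHom h N _) _ _)).trans (map_add _ _ _)).trans
      (congrArg₂ (· + ·) hv hv')
  | tmul s b =>
    rw [LinearMap.lTensor_tmul, modelOf_apply, modelOf_apply, bcSec_tmul, bcSec_tmul,
      Scheme.Modules.Hom.app_smul, Scheme.Modules.Hom.app_smul, PicAux.pullSec_smul,
      Scheme.Modules.Hom.app_smul, app_toSec_hom h ψ w₀, hf]
    rfl

end Geometry

end Groth.CohC3.BC
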