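import Groth.Agent.CohC3.BC.Translate
import Groth.Agent.CohC3.BC.Descent
import Groth.Agent.CohBase.FibreConsequences
import Groth.Agent.OmegaSheaf.IsoLocal

/-!
# Cohomology and base change: consequences of the existence of models
-/

universe u

open CategoryTheory Limits AlgebraicGeometry TopologicalSpace Opposite
open scoped TensorProduct
open Groth.CohBase (preimageToSpec)
open Groth.QCohMod (sectionsAlg mem_basicOpen_iff_notMem_primeIdealOf)
open Groth.FlatCxBase (fdim)

set_option maxHeartbeats 800000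
set_option backward.isDefEq.respectTransparency false
set_option backward.defeqAttrib.useBackward true
set_option backward.isDefEq.respectTransparency.types false

namespace Groth.CohC3.BC

section Algebra

variable {A : Type u} [CommRing A]

/-- A basic open is in the free locus iff the module is projective on it. -/
theorem subset_freeLocus_iff {N : Type u} [AddCommGroup N] [Module A N]
    [Module.FinitePresentation A N] (a : A) (C : Type u) [CommRing C] [Algebra A C]
    [IsLocalization.Away a C] :
    (PrimeSpectrum.basicOpen a : Set (PrimeSpectrum A)) ⊆ Module.freeLocus A N ↔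
      Module.Projective C (C ⊗[A] N) := by
  refine ⟨fun h => Module.freeLocus_eq_univ_iff.1 (Set.eq_univ_of_forall fun p =>
    Module.comap_freeLocus_le (h ?_)), fun h x hx => ?_⟩
  · rw [← PrimeSpectrum.localization_away_comap_range C a]
    exact ⟨p, rfl⟩
  · let Ax := Localization.AtPrime x.asIdeal
    have hu : IsUnit (algebraMap A Ax a) :=
      IsLocalization.map_units (M := x.asIdeal.primeCompl) Ax ⟨a, hx⟩
    letI : Algebra C Ax := (IsLocalization.Away.lift a hu).toAlgebra
    have : IsScalarTower A C Ax := .of_algebraMap_eq fun r =>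
      (IsLocalization.Away.lift_eq a hu r).symm
    rw [Module.mem_freeLocus_iff_tensor x Ax]
    have : Module.Projective Ax (Ax ⊗[A] N) := Module.Projective.of_equiv
      (TensorProduct.AlgebraTensorModule.cancelBaseChange A C Ax Ax N)
    exact Module.free_of_flat_of_isLocalRing

variable {Q P Q' : Type u} [AddCommGroup Q] [Module A Q] [AddCommGroup P] [Module A P]
  [AddCommGroup Q'] [Module A Q'] (f : Q →ₗ[A] P)

/-- A map into a finite free module which is injective at a point has no kernel near it. -/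
theorem notMem_support_ker [Module.Finite A Q] [Module.Finite A P] [Module.Free A P]
    (K : Type u) [Field K] [Algebra A K] (x : PrimeSpectrum A)
    (hK : RingHom.ker (algebraMap A K) = x.asIdeal) (h0 : LinearMap.ker (f.baseChange K) = ⊥) :
    x ∉ Module.support A (LinearMap.ker f) := by
  have hκ := injective_residueField K x hK f (LinearMap.ker_eq_bot.1 h0)
  let B := Localization.AtPrime x.asIdeal
  let k := IsLocalRing.ResidueField B
  have hk : Function.Injective ((f.baseChange B).lTensor k) := by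
    intro a b hab
    apply (TensorProduct.AlgebraTensorModule.cancelBaseChange A B k k Q).injective
    apply hκ
    refine (cancel_baseChange B k f a).symm.trans (Eq.trans ?_ (cancel_baseChange B k f b))
    exact congrArg _ hab
  obtain ⟨r, hr⟩ := (IsLocalRing.split_injective_iff_lTensor_residueField_injective _).2 hk
  have hinj : Function.Injective (f.baseChange B) :=
    Function.HasLeftInverse.injective ⟨r, fun v => LinearMap.congr_fun hr v⟩
  have : Subsingleton (LinearMap.ker (f.baseChange B)) := by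
    rw [LinearMap.ker_eq_bot.2 hinj]; infer_instance
  have : Subsingleton (B ⊗[A] LinearMap.ker f) :=
    (kerBC_bijective_of_flat_algebra (f := f) B).1.subsingleton
  rw [Module.notMem_support_iff]
  exact (LocalizedModule.equivTensorProduct x.asIdeal.primeCompl _).toEquiv.subsingleton

/-- On the free locus the fibre dimension is the rank. -/
theorem fdim_eq_rankAtStalk_of_mem {N : Type u} [AddCommGroup N] [Module A N]
    {x : PrimeSpectrum A} (hx : x ∈ Module.freeLocus A N) :
    fdim N x = Module.rankAtStalk N x := by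
  rw [Module.rankAtStalk_eq_finrank_tensorProduct]
  have : Module.Free (Localization.AtPrime x.asIdeal) (Localization.AtPrime x.asIdeal ⊗[A] N) :=
    (Module.mem_freeLocus_iff_tensor x _).1 hx
  exact ((TensorProduct.AlgebraTensorModule.cancelBaseChange A (Localization.AtPrime x.asIdeal)
    x.asIdeal.ResidueField x.asIdeal.ResidueField N).finrank_eq).symm.trans Module.finrank_baseChange

end Algebra

/-- Projectivity of sections descends from a restriction. -/
theorem projective_of_restrict {S : Scheme.{u}} (R : S.Modules) (W : S.Opens) (W' : (W : Scheme.{u}).Opens)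
    (h : Module.Projective Γ((W : Scheme.{u}), W') Γ(R.restrict W.ι, W')) :
    Module.Projective Γ(S, W.ι ''ᵁ W') Γ(R, W.ι ''ᵁ W') := by
  let σ : Γ((W : Scheme.{u}), W') ≃+* Γ(S, W.ι ''ᵁ W') :=
    (W.ι.appIso W').symm.commRingCatIsoToRingEquiv
  letI : RingHomInvPair σ.toRingHom σ.symm.toRingHom := RingHomInvPair.of_ringEquiv σ
  letI : RingHomInvPair σ.symm.toRingHom σ.toRingHom := RingHomInvPair.of_ringEquiv σ.symm
  let e : Γ(R.restrict W.ι, W') ≃ₛₗ[σ.toRingHom] Γ(R, W.ι ''ᵁ W') :=
    { __ := AddEquiv.refl Γ(R, W.ι ''ᵁ W'), map_smul' := fun r m => rfl }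
  exact Module.Projective.of_equiv e

variable {X S : Scheme.{u}} {f : X ⟶ S} {F : X.Modules} {V : S.Opens}

/-- A basic open inside a given open set of primes around a point. -/
theorem exists_basicOpen (hV : IsAffineOpen V) {y : S} (hy : y ∈ V)
    {O : Set (PrimeSpectrum Γ(S, V))} (hO : IsOpen O) (hx : hV.primeIdealOf ⟨y, hy⟩ ∈ O) :
    ∃ a : Γ(S, V), y ∈ S.basicOpen a ∧
      (PrimeSpectrum.basicOpen a : Set (PrimeSpectrum Γ(S, V))) ⊆ O ∧
      ∀ z (hz : z ∈ V), z ∈ S.basicOpen a → hV.primeIdealOf ⟨z, hz⟩ ∈ O := by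
  obtain ⟨_, ⟨a, rfl⟩, hxa, haO⟩ :=
    PrimeSpectrum.isTopologicalBasis_basic_opens.exists_subset_of_mem_open hx hO
  exact ⟨a, (mem_basicOpen_iff_notMem_primeIdealOf hV a y hy).2 hxa, haO, fun z hz h =>
    haO ((mem_basicOpen_iff_notMem_primeIdealOf hV a z hz).1 h)⟩

variable [IsProper f] [F.IsQuasicoherent]

section Fibre

variable (hV : IsAffineOpen V) (M : Model (preimageToSpec f (V := V)) (F.restrict (f ⁻¹ᵁ V).ι))
  {y : S} (hy : y ∈ V)

include hV M hy

/-- The cohomology of a fibre as a kernel. -/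
theorem exists_fibre_equiv (p : ℕ) :
    letI := (S.evaluation V y hy).hom.toAlgebra
    Nonempty (CohIII.fiberH f F y p ≃ₗ[S.residueField y]
      LinearMap.ker ((M.d p).baseChange (S.residueField y))) := by
  letI := (S.evaluation V y hy).hom.toAlgebra
  obtain ⟨e, -⟩ := M.exists_e (S.residueField y) (f.fiberToSpecResidueField y)
    (Groth.CohBase.fibreToPreimage f y hy) (Groth.CohBase.isPullback_fibreToPreimage f hV y hy) p
  let iso : CohFin.HA (A := S.residueField y) (f.fiberToSpecResidueField y) _ p ≃ₗ[S.residueField y]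
      CohFin.HA (A := S.residueField y) (f.fiberToSpecResidueField y) _ p :=
    Groth.CohBase.haIsoEquiv (A := S.residueField y) (f.fiberToSpecResidueField y)
      (Groth.CohBase.fibreModIso f F y hy) p
  exact ⟨(e.trans iso).symm⟩

/-- The fibre rank in terms of a model. -/
theorem fiberRank_add (p : ℕ) :
    CohIII.fiberRank f F p y + Module.finrank Γ(S, V) (M.P p) =
      fdim (M.Q p) (hV.primeIdealOf ⟨y, hy⟩) + fdim (M.Q (p + 1)) (hV.primeIdealOf ⟨y, hy⟩) := by
  letI := (S.evaluation V y hy).hom.toAlgebra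
  have hK := Groth.CohBase.ker_evaluation hV y hy
  obtain ⟨e⟩ := exists_fibre_equiv hV M hy p
  have := M.finitePresentation p
  have := M.free p
  have := M.finite p
  have h := finrank_ker_add (f := M.d p) (S.residueField y) (M.exact p) (M.surjective p)
  have : Nontrivial Γ(S, V) := (algebraMap Γ(S, V) (S.residueField y)).domain_nontrivial
  rw [Module.finrank_baseChange, ← e.finrank_eq] at h
  have h0 := Groth.CohBase.CxRank.kdim_eq_fdim (S.residueField y) (M.Q p) _ hK
  have h1 := Groth.CohBase.CxRank.kdim_eq_fdim (S.residueField y) (M.Q (p + 1)) _ hK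
  unfold Groth.CohBase.CxRank.kdim at h0 h1
  rw [h0, h1] at h
  exact h

/-- Cohomology of the fibre vanishes iff its rank does. -/
theorem subsingleton_iff_fiberRank (p : ℕ) :
    Subsingleton (CohIII.fiberH f F y p) ↔ CohIII.fiberRank f F p y = 0 := by
  letI := (S.evaluation V y hy).hom.toAlgebra
  obtain ⟨e⟩ := exists_fibre_equiv hV M hy p
  have := M.finitePresentation p
  refine ⟨fun h => Module.finrank_zero_of_subsingleton, fun h => ?_⟩
  have : Module.Finite (S.residueField y) (CohIII.fiberH f F y p) := Module.Finite.equiv e.symm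
  exact Module.finrank_zero_iff.1 h

/-- Vanishing on the fibre gives both free loci and kills the kernel near the point. -/
theorem mem_freeLocus_of_vanish (p : ℕ) (h : Subsingleton (CohIII.fiberH f F y p)) :
    (hV.primeIdealOf ⟨y, hy⟩ ∈ Module.freeLocus Γ(S, V) (M.Q (p + 1)) ∧
      hV.primeIdealOf ⟨y, hy⟩ ∈ Module.freeLocus Γ(S, V) (M.Q p)) ∧
    hV.primeIdealOf ⟨y, hy⟩ ∉ Module.support Γ(S, V) (LinearMap.ker (M.d p)) := by
  letI := (S.evaluation V y hy).hom.toAlgebra
  have hK := Groth.CohBase.ker_evaluation hV y hy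
  obtain ⟨e⟩ := exists_fibre_equiv hV M hy p
  have := M.finitePresentation p
  have := M.free p
  have := M.finite p
  have : Subsingleton (LinearMap.ker ((M.d p).baseChange (S.residueField y))) :=
    e.symm.toEquiv.subsingleton
  have h0 : LinearMap.ker ((M.d p).baseChange (S.residueField y)) = ⊥ :=
    Submodule.eq_bot_of_subsingleton
  exact ⟨mem_freeLocus_of_ker_eq_bot (f := M.d p) (S.residueField y) _ hK (M.exact p)
    (M.surjective p) h0, notMem_support_ker (M.d p) (S.residueField y) _ hK h0⟩

/-- A surjective base change map of the fibre square gives the free locus. -/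
theorem mem_freeLocus_of_epi [LocallyOfFinitePresentation f] [HasInjectiveResolutions X.Modules]
    [HasInjectiveResolutions (f.fiber y).Modules]
    {Δ : RDer.DerivedLES (Scheme.Modules.pushforward f)}
    {Δs : RDer.DerivedLES (Scheme.Modules.pushforward (f.fiberToSpecResidueField y))}
    {E : CohCmp.SectCmp f Δ} {Es : CohCmp.SectCmp (f.fiberToSpecResidueField y) Δs}
    (B : CohCmp.GenBC f (S.fromSpecResidueField y) (f.fiberToSpecResidueField y) (f.fiberι y)
      (f.fiber_fac y) E Es) (p : ℕ) (hB : Epi (B.bc p F)) :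
    hV.primeIdealOf ⟨y, hy⟩ ∈ Module.freeLocus Γ(S, V) (M.Q (p + 1)) := by
  let g := S.fromSpecResidueField y
  have hsq : IsPullback (f.fiberι y) (f.fiberToSpecResidueField y) f g :=
    IsPullback.of_hasPullback f g
  have e : (⊤ : (Spec (S.residueField y)).Opens) ≤ g ⁻¹ᵁ V := fun z _ => by
    change g z ∈ V
    rw [Scheme.fromSpecResidueField_apply]
    exact hy
  have hU := isAffineOpen_top (Spec (S.residueField y))
  letI : Algebra Γ(S, V) Γ(Spec (S.residueField y), ⊤) := sectionsAlg g e
  have hF : IsField Γ(Spec (S.residueField y), ⊤) :=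
    MulEquiv.isField (Field.toIsField (S.residueField y))
      (Scheme.ΓSpecIso (S.residueField y)).commRingCatIsoToRingEquiv.toMulEquiv
  letI : Field Γ(Spec (S.residueField y), ⊤) := hF.toField
  obtain ⟨σ, τ, hσ, hτ, hστ⟩ := exists_bc_app_eq (E := E) (E' := Es) M hsq B hV p hU e
  have : ((Scheme.Modules.pullback g).obj ((Coh.Rpush f p).obj F)).IsQuasicoherent :=
    have := Groth.CohBase.isQCoh_Rpush f (M := F) p
    Groth.QCohMod.isQCoh_pullback_obj g _
  have : QuasiSeparated (f.fiberToSpecResidueField y) :=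
    MorphismProperty.of_isPullback hsq (inferInstanceAs (QuasiSeparated f))
  have : QuasiCompact (f.fiberToSpecResidueField y) :=
    MorphismProperty.of_isPullback hsq (inferInstanceAs (QuasiCompact f))
  have : ((Coh.Rpush (f.fiberToSpecResidueField y) p).obj
      ((Scheme.Modules.pullback (f.fiberι y)).obj F)).IsQuasicoherent := by
    have := Groth.QCohMod.isQCoh_pullback_obj (f.fiberι y) F
    exact Groth.CohBase.isQCoh_Rpush _ p
  have hs : Function.Surjective (kerBC (M.d p) Γ(Spec (S.residueField y), ⊤)) := fun v => by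
    obtain ⟨w, hw⟩ := Groth.QCohMod.app_surjective_of_epi (B.bc p F) hU (τ v)
    obtain ⟨z, rfl⟩ := hσ.2 w
    exact ⟨z, hτ.1 ((hστ z).symm.trans hw)⟩
  have := M.finitePresentation p
  have := M.free p
  have := M.finite p
  refine mem_freeLocus_of_surjective (f := M.d p) _ _ ?_ (M.exact p) (M.surjective p) hs
  let z₀ : Spec (S.residueField y) := IsLocalRing.closedPoint (S.residueField y)
  have hc := IsAffineOpen.comap_primeIdealOf_appLE (f := g) (x := z₀) V hV ⊤ hU e trivial
  have hbot : (hU.primeIdealOf ⟨z₀, trivial⟩).asIdeal = ⊥ :=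
    (Ideal.eq_bot_or_top _).resolve_right (hU.primeIdealOf ⟨z₀, trivial⟩).isPrime.ne_top
  have hp : hV.primeIdealOf ⟨g z₀, e trivial⟩ = hV.primeIdealOf ⟨y, hy⟩ :=
    congrArg hV.primeIdealOf (Subtype.ext (Scheme.fromSpecResidueField_apply y z₀))
  rw [← hp, ← hc]
  exact (congrArg (Ideal.comap (g.appLE V ⊤ e).hom) hbot).symm

end Fibre

section Iso

variable [LocallyOfFinitePresentation f] [HasInjectiveResolutions X.Modules]
  {Δ : RDer.DerivedLES (Scheme.Modules.pushforward f)} {E : CohCmp.SectCmp f Δ}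

/-- The base change map is an isomorphism over the free locus. -/
theorem isIso_bc_of_free {X' S' : Scheme.{u}} {g' : X' ⟶ X} {f' : X' ⟶ S'} {g : S' ⟶ S}
    (h : IsPullback g' f' f g) [HasInjectiveResolutions X'.Modules]
    {Δ' : RDer.DerivedLES (Scheme.Modules.pushforward f')} {E' : CohCmp.SectCmp f' Δ'}
    (B : CohCmp.GenBC f g f' g' h.w E E') (p : ℕ)
    (hfree : ∀ z : S', ∃ (V : S.Opens) (hV : IsAffineOpen V)
      (M : Model (preimageToSpec f (V := V)) (F.restrict (f ⁻¹ᵁ V).ι)) (hz : g z ∈ V),
      hV.primeIdealOf ⟨g z, hz⟩ ∈ Module.freeLocus Γ(S, V) (M.Q (p + 1))) :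
    IsIso (B.bc p F) := by
  have : QuasiSeparated f' := MorphismProperty.of_isPullback h (inferInstanceAs (QuasiSeparated f))
  have : QuasiCompact f' := MorphismProperty.of_isPullback h (inferInstanceAs (QuasiCompact f))
  have : ((Scheme.Modules.pullback g).obj ((Coh.Rpush f p).obj F)).IsQuasicoherent :=
    have := Groth.CohBase.isQCoh_Rpush f (M := F) p
    Groth.QCohMod.isQCoh_pullback_obj g _
  have : ((Coh.Rpush f' p).obj ((Scheme.Modules.pullback g').obj F)).IsQuasicoherent := by
    have := Groth.QCohMod.isQCoh_pullback_obj g' F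
    exact Groth.CohBase.isQCoh_Rpush _ p
  refine Groth.OmegaSheaf.isIso_of_affine_cover (B.bc p F) fun z => ?_
  obtain ⟨V, hV, M, hz, hx⟩ := hfree z
  have := M.finitePresentation (p + 1)
  have := M.free p
  obtain ⟨a, hya, haO, -⟩ := exists_basicOpen hV hz Module.isOpen_freeLocus hx
  obtain ⟨_, ⟨U', hU', rfl⟩, hzU, hUle⟩ := S'.isBasis_affineOpens.exists_subset_of_mem_open
    (show z ∈ g ⁻¹ᵁ S.basicOpen a from hya) (g ⁻¹ᵁ S.basicOpen a).2
  have e : U' ≤ g ⁻¹ᵁ V := fun w hw => S.basicOpen_le a (hUle hw)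
  refine ⟨U', hU', hzU, ?_⟩
  obtain ⟨σ, τ, hσ, hτ, hστ⟩ := exists_bc_app_eq (E := E) (E' := E') M h B hV p hU' e
  letI : Algebra Γ(S, V) Γ(S', U') := sectionsAlg g e
  have hu : IsUnit (algebraMap Γ(S, V) Γ(S', U') a) := by
    apply RingedSpace.isUnit_of_isUnit_germ S'.toRingedSpace
    intro w hw
    refine (Scheme.mem_basicOpen S' _ w hw).1 ?_
    change w ∈ S'.basicOpen (g.appLE V U' e a)
    rw [Scheme.basicOpen_appLE]
    exact ⟨hw, hUle hw⟩
  let C := Localization.Away a
  letI : Algebra C Γ(S', U') := (IsLocalization.Away.lift a hu).toAlgebra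
  have : IsScalarTower Γ(S, V) C Γ(S', U') := .of_algebraMap_eq fun r =>
    (IsLocalization.Away.lift_eq a hu r).symm
  have : Module.Flat Γ(S, V) C := IsLocalization.flat C (Submonoid.powers a)
  have : Module.Projective C (C ⊗[Γ(S, V)] M.Q (p + 1)) := (subset_freeLocus_iff a C).1 haO
  have : Module.Flat C (C ⊗[Γ(S, V)] M.Q (p + 1)) := Module.Flat.of_projective
  have hk := kerBC_bijective_of_tower (f := M.d p) C Γ(S', U') (M.exact p) (M.surjective p)
  rw [← Function.Bijective.of_comp_iff _ hσ]
  rw [show (fun w => (B.bc p F).app U' w) ∘ σ = τ ∘ kerBC (M.d p) Γ(S', U') from funext hστ]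
  exact hτ.comp hk

include E in
/-- A higher direct image has a basis near a point where both cokernels are free. -/
theorem exists_basis_of_free (p : ℕ) (hV : IsAffineOpen V)
    (M : Model (preimageToSpec f (V := V)) (F.restrict (f ⁻¹ᵁ V).ι)) {y : S} (hy : y ∈ V)
    (hx : hV.primeIdealOf ⟨y, hy⟩ ∈ Module.freeLocus Γ(S, V) (M.Q p) ∧
      hV.primeIdealOf ⟨y, hy⟩ ∈ Module.freeLocus Γ(S, V) (M.Q (p + 1))) :
    ∃ (W : S.Opens) (n : ℕ) (s : Fin n → Γ((Coh.Rpush f p).obj F, W)), y ∈ W ∧
      Groth.PicAux.Basis' ((Coh.Rpush f p).obj F) W s := by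
  let R := (Coh.Rpush f p).obj F
  have : R.IsQuasicoherent := Groth.CohBase.isQCoh_Rpush f p
  have := M.finitePresentation p
  have := M.finitePresentation (p + 1)
  have := M.free p
  obtain ⟨a, hya, haO, -⟩ := exists_basicOpen hV hy
    (Module.isOpen_freeLocus.inter Module.isOpen_freeLocus) hx
  letI : Algebra Γ(S, V) Γ(S, S.basicOpen a) :=
    (S.presheaf.map (homOfLE (S.basicOpen_le a)).op).hom.toAlgebra
  let C := Γ(S, S.basicOpen a)
  have : IsLocalization.Away a C := hV.isLocalization_basicOpen a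
  have : Module.Flat Γ(S, V) C := IsLocalization.flat C (Submonoid.powers a)
  have : Module.Projective C (C ⊗[Γ(S, V)] M.Q p) :=
    (subset_freeLocus_iff a C).1 fun z hz => (haO hz).1
  have : Module.Projective C (C ⊗[Γ(S, V)] M.Q (p + 1)) :=
    (subset_freeLocus_iff a C).1 fun z hz => (haO hz).2
  obtain ⟨h1, h2⟩ := ker_finite_projective (f := (M.d p).baseChange C)
    (exact_baseChange (M.exact p) (M.surjective p) C) (surjective_baseChange (M.surjective p) C)
  obtain ⟨e⟩ := exists_sections_basicOpen E hV M p a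
  have : Module.Finite C Γ(R, S.basicOpen a) := Module.Finite.equiv e
  have : Module.Projective C Γ(R, S.basicOpen a) := Module.Projective.of_equiv e
  have : Module.FinitePresentation C Γ(R, S.basicOpen a) :=
    Module.finitePresentation_of_projective _ _
  have hW := hV.basicOpen a
  have : Module.Free (S.presheaf.stalk y) (R.presheaf.stalk y) :=
    (LocFree.mem_freeLocus_iff hW hya).1
      (Module.freeLocus_eq_univ (R := C) (M := Γ(R, S.basicOpen a)) ▸ trivial)
  obtain ⟨b, n, m, hb, -, hm⟩ := LocFree.exists_basis_of_free_stalk (M := R) hW hya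
  exact ⟨S.basicOpen b, n, _, hb, hm⟩

include E in
/-- A higher direct image is finite locally free where both cokernels are free. -/
theorem isFinLocFree_restrict_of_free (p : ℕ) (U : S.Opens)
    (hU : ∀ y ∈ U, ∃ (V : S.Opens) (hV : IsAffineOpen V)
      (M : Model (preimageToSpec f (V := V)) (F.restrict (f ⁻¹ᵁ V).ι)) (hy : y ∈ V),
      hV.primeIdealOf ⟨y, hy⟩ ∈ Module.freeLocus Γ(S, V) (M.Q p) ∧
        hV.primeIdealOf ⟨y, hy⟩ ∈ Module.freeLocus Γ(S, V) (M.Q (p + 1))) :
    FlatMod.IsFinLocFree (((Coh.Rpush f p).obj F).restrict U.ι) := by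
  refine KTheory.LocFree.isFinLocFree_iff.2 fun w => ?_
  obtain ⟨V, hV, M, hy, hx⟩ := hU w.1 w.2
  obtain ⟨W, n, s, hW, hs⟩ := exists_basis_of_free (E := E) p hV M hy hx
  exact ⟨U.ι ⁻¹ᵁ W, n, _, hW,
    (hs.pull U.ι).map ((Scheme.Modules.restrictFunctorIsoPullback U.ι).app _).inv⟩

include E in
/-- A higher direct image is finite locally free if both cokernels are free everywhere. -/
theorem isFinLocFree_of_free (p : ℕ)
    (hU : ∀ y : S, ∃ (V : S.Opens) (hV : IsAffineOpen V)
      (M : Model (preimageToSpec f (V := V)) (F.restrict (f ⁻¹ᵁ V).ι)) (hy : y ∈ V),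
      hV.primeIdealOf ⟨y, hy⟩ ∈ Module.freeLocus Γ(S, V) (M.Q p) ∧
        hV.primeIdealOf ⟨y, hy⟩ ∈ Module.freeLocus Γ(S, V) (M.Q (p + 1))) :
    FlatMod.IsFinLocFree ((Coh.Rpush f p).obj F) := by
  refine KTheory.LocFree.isFinLocFree_iff.2 fun w => ?_
  obtain ⟨V, hV, M, hy, hx⟩ := hU w
  exact exists_basis_of_free (E := E) p hV M hy hx

include E in
/-- A higher direct image vanishes where the fibre cohomology does. -/
theorem isZero_restrict_of_vanish (p : ℕ) (U : S.Opens)
    (hU : ∀ y ∈ U, ∃ (V : S.Opens) (hV : IsAffineOpen V)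
      (_ : Model (preimageToSpec f (V := V)) (F.restrict (f ⁻¹ᵁ V).ι)),
      y ∈ V ∧ Subsingleton (CohIII.fiberH f F y p)) :
    IsZero (((Coh.Rpush f p).obj F).restrict U.ι) := by
  let R := (Coh.Rpush f p).obj F
  have : R.IsQuasicoherent := Groth.CohBase.isQCoh_Rpush f p
  refine (Groth.QCohMod.isZero_restrict_iff_stalk R _).2 fun z hz => ?_
  obtain ⟨V, hV, M, hzV, h⟩ := hU z hz
  have hns := (mem_freeLocus_of_vanish hV M hzV p h).2
  have hns' : hV.primeIdealOf ⟨z, hzV⟩ ∉ Module.support Γ(S, V) Γ(R, V) := by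
    rw [← (secEquiv E hV M p).support_eq]
    exact hns
  rw [Module.notMem_support_iff] at hns'
  let _ := Groth.QCohMod.stalkModule R z hzV
  have := Groth.QCohMod.isLocalizedModule_germ R hV z hzV
  have : Subsingleton (R.presheaf.stalk z) :=
    (IsLocalizedModule.iso (hV.primeIdealOf ⟨z, hzV⟩).asIdeal.primeCompl
      (Groth.QCohMod.germₗ R z hzV)).symm.toEquiv.subsingleton
  exact @AddCommGrpCat.isZero_of_subsingleton _ this

include E in
/-- A locally free direct image with free next cokernel forces the cokernel to be free. -/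
theorem mem_freeLocus_of_locFree (hV : IsAffineOpen V)
    (M : Model (preimageToSpec f (V := V)) (F.restrict (f ⁻¹ᵁ V).ι)) {y : S} (hy : y ∈ V) (p : ℕ)
    {W : S.Opens} (hyW : y ∈ W) (hR : FlatMod.IsFinLocFree (((Coh.Rpush f p).obj F).restrict W.ι))
    (hx : hV.primeIdealOf ⟨y, hy⟩ ∈ Module.freeLocus Γ(S, V) (M.Q (p + 1))) :
    hV.primeIdealOf ⟨y, hy⟩ ∈ Module.freeLocus Γ(S, V) (M.Q p) := by
  let R := (Coh.Rpush f p).obj F
  have := M.finitePresentation p
  have := M.finitePresentation (p + 1)
  have := M.free p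
  let O : Set (PrimeSpectrum Γ(S, V)) :=
    Module.freeLocus Γ(S, V) (M.Q (p + 1)) ∩ hV.fromSpec ⁻¹' (W : Set S)
  have hO : IsOpen O :=
    Module.isOpen_freeLocus.inter (W.2.preimage hV.fromSpec.continuous)
  obtain ⟨a, hya, haO, -⟩ := exists_basicOpen hV hy hO ⟨hx, by
    change hV.fromSpec (hV.primeIdealOf ⟨y, hy⟩) ∈ W
    rw [hV.fromSpec_primeIdealOf]
    exact hyW⟩
  have hle : S.basicOpen a ≤ W := fun z hz => by
    have hzV := S.basicOpen_le a hz
    have := (haO ((mem_basicOpen_iff_notMem_primeIdealOf hV a z hzV).1 hz)).2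
    change hV.fromSpec (hV.primeIdealOf ⟨z, hzV⟩) ∈ W at this
    rwa [hV.fromSpec_primeIdealOf] at this
  letI : Algebra Γ(S, V) Γ(S, S.basicOpen a) :=
    (S.presheaf.map (homOfLE (S.basicOpen_le a)).op).hom.toAlgebra
  let C := Γ(S, S.basicOpen a)
  have : IsLocalization.Away a C := hV.isLocalization_basicOpen a
  have : Module.Projective C (C ⊗[Γ(S, V)] M.Q (p + 1)) :=
    (subset_freeLocus_iff a C).1 fun z hz => (haO hz).1
  have hproj : Module.Projective C Γ(R, S.basicOpen a) := by
    have key : ∀ W' : S.Opens, W' = S.basicOpen a → Module.Projective Γ(S, W') Γ(R, W') →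
        Module.Projective C Γ(R, S.basicOpen a) := by
      rintro _ rfl h; exact h
    have hW' : IsAffineOpen (W.ι ⁻¹ᵁ S.basicOpen a) :=
      (hV.basicOpen a).preimage_of_isOpenImmersion W.ι (by rwa [Scheme.Opens.opensRange_ι])
    refine key (W.ι ''ᵁ (W.ι ⁻¹ᵁ S.basicOpen a)) ?_
      (projective_of_restrict R W _ (Groth.LocFree.projective_sections hR hW'))
    rw [Scheme.Hom.image_preimage_eq_opensRange_inf, Scheme.Opens.opensRange_ι]
    exact inf_eq_right.2 hle
  have : Module.Flat C (C ⊗[Γ(S, V)] M.Q (p + 1)) := Module.Flat.of_projective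
  obtain ⟨e⟩ := exists_sections_basicOpen E hV M p a
  have : Module.Projective C (LinearMap.ker ((M.d p).baseChange C)) :=
    Module.Projective.of_equiv e.symm
  have : Module.Flat C (C ⊗[Γ(S, V)] M.Q p) := flat_of_ker (f := (M.d p).baseChange C)
    (exact_baseChange (M.exact p) (M.surjective p) C) (surjective_baseChange (M.surjective p) C)
  exact (subset_freeLocus_iff (N := M.Q p) a C).2 Module.Flat.projective_of_finitePresentation
    ((mem_basicOpen_iff_notMem_primeIdealOf hV a y hy).1 hya)

end Iso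

end Groth.CohC3.BC
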