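import Groth.Agent.CohC3.BC.Model
import Groth.Agent.CohC3.BC.Algebra
import Groth.Agent.CohCmpLib.GenBC
import Groth.Agent.PropsBasic.FPSections

/-!
# Higher direct images and base change maps in terms of a model
-/

universe u

open CategoryTheory Limits AlgebraicGeometry TopologicalSpace Opposite
open scoped TensorProduct
open Groth.CohBase Groth.CohCmpLib
open Groth.QCohMod (sectionsAlg pullSecTensor pullSecTensor_tmul pullSecTensor_bijective)
open Groth.PicAux (pullSec)

set_option maxHeartbeats 800000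
set_option backward.isDefEq.respectTransparency false
set_option backward.defeqAttrib.useBackward true
set_option backward.isDefEq.respectTransparency.types false

namespace Groth.CohC3.BC

variable {X S : Scheme.{u}} {f : X ⟶ S} [QuasiCompact f] [QuasiSeparated f]
  [HasInjectiveResolutions X.Modules] {Δ : RDer.DerivedLES (Scheme.Modules.pushforward f)}
  (E : CohCmp.SectCmp f Δ) {F : X.Modules} [F.IsQuasicoherent] {V : S.Opens} (hV : IsAffineOpen V)
  (M : Model (preimageToSpec f (V := V)) (F.restrict (f ⁻¹ᵁ V).ι))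

/-- The comparison over an affine open as a linear map. -/
noncomputable def epsLin (F : X.Modules) (p : ℕ) :
    CohFin.HA (preimageToSpec f (V := V)) (F.restrict (f ⁻¹ᵁ V).ι) p →ₗ[Γ(S, V)]
      Γ((Coh.Rpush f p).obj F, V) where
  toFun x := E.ε V F p x
  map_add' := map_add (E.ε V F p)
  map_smul' a x := by
    refine Eq.trans (congrArg (E.ε V F p) ?_) (eps_smul E F V p a x)
    exact congrArg (fun r : Γ((f ⁻¹ᵁ V).toScheme, ⊤) => r •
      (show Coh.HH (f ⁻¹ᵁ V).toScheme (F.restrict (f ⁻¹ᵁ V).ι) p from x))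
      (Groth.Limits.FibreVanishing.globalMap_preimage f a)

/-- The comparison over an affine open as a linear equivalence. -/
noncomputable def epsEquiv (hV : IsAffineOpen V) (F : X.Modules) [F.IsQuasicoherent] (p : ℕ) :
    CohFin.HA (preimageToSpec f (V := V)) (F.restrict (f ⁻¹ᵁ V).ι) p ≃ₗ[Γ(S, V)]
      Γ((Coh.Rpush f p).obj F, V) :=
  LinearEquiv.ofBijective (epsLin E F p) (eps_bijective_of_affine E F hV p)

/-- Sections of a higher direct image as a kernel. -/
noncomputable def secEquiv (p : ℕ) :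
    LinearMap.ker (M.d p) ≃ₗ[Γ(S, V)] Γ((Coh.Rpush f p).obj F, V) :=
  (M.e₀ p).trans (epsEquiv E hV F p)

include E hV in
/-- Sections over a basic open. -/
theorem exists_sections_basicOpen (p : ℕ) (g : Γ(S, V)) :
    letI : Algebra Γ(S, V) Γ(S, S.basicOpen g) :=
      (S.presheaf.map (homOfLE (S.basicOpen_le g)).op).hom.toAlgebra
    Nonempty (LinearMap.ker ((M.d p).baseChange Γ(S, S.basicOpen g)) ≃ₗ[Γ(S, S.basicOpen g)]
      Γ((Coh.Rpush f p).obj F, S.basicOpen g)) := by
  let R := (Coh.Rpush f p).obj F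
  have : R.IsQuasicoherent := isQCoh_Rpush f p
  letI : Algebra Γ(S, V) Γ(S, S.basicOpen g) :=
    (S.presheaf.map (homOfLE (S.basicOpen_le g)).op).hom.toAlgebra
  have : IsLocalization.Away g Γ(S, S.basicOpen g) := hV.isLocalization_basicOpen g
  have : Module.Flat Γ(S, V) Γ(S, S.basicOpen g) :=
    IsLocalization.flat Γ(S, S.basicOpen g) (Submonoid.powers g)
  letI := Groth.PropsBasic.FPSections.resModule R g
  have : IsScalarTower Γ(S, V) Γ(S, S.basicOpen g) Γ(R, S.basicOpen g) :=
    IsScalarTower.of_algebraMap_smul fun _ _ => rfl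
  have := Groth.PropsBasic.FPSections.isLocalizedModule_resₗ R hV g
  let e := (IsLocalizedModule.isBaseChange (Submonoid.powers g) Γ(S, S.basicOpen g)
    (Groth.PropsBasic.FPSections.resₗ R g)).equiv
  exact ⟨(LinearEquiv.ofBijective _ (kerBC_bijective_of_flat_algebra (f := M.d p)
    Γ(S, S.basicOpen g))).symm.trans
      ((TensorProduct.congr (LinearEquiv.refl Γ(S, V) Γ(S, S.basicOpen g))
        (secEquiv E hV M p)).toAddEquiv.toLinearEquiv (fun c z => by
          induction z using TensorProduct.induction_on with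
          | zero => simp
          | tmul a x => rfl
          | add a b ha hb => simp only [smul_add, map_add]; exact congrArg₂ (· + ·) ha hb) ≪≫ₗ e)⟩

section Square

variable {X' S' : Scheme.{u}} {g : S' ⟶ S} {f' : X' ⟶ S'} {g' : X' ⟶ X}
  [HasInjectiveResolutions X'.Modules] {Δ' : RDer.DerivedLES (Scheme.Modules.pushforward f')}
  {E' : CohCmp.SectCmp f' Δ'}

include M in
/-- On an affine open over `V` the base change map is the base change map of kernels. -/
theorem exists_bc_app_eq (h : IsPullback g' f' f g) (B : CohCmp.GenBC f g f' g' h.w E E')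
    (hV : IsAffineOpen V) (p : ℕ) {U' : S'.Opens} (hU' : IsAffineOpen U') (e : U' ≤ g ⁻¹ᵁ V) :
    letI : Algebra Γ(S, V) Γ(S', U') := sectionsAlg g e
    ∃ (σ : Γ(S', U') ⊗[Γ(S, V)] LinearMap.ker (M.d p) →
          Γ((Scheme.Modules.pullback g).obj ((Coh.Rpush f p).obj F), U'))
      (τ : LinearMap.ker ((M.d p).baseChange Γ(S', U')) →
          Γ((Coh.Rpush f' p).obj ((Scheme.Modules.pullback g').obj F), U')),
      Function.Bijective σ ∧ Function.Bijective τ ∧
        ∀ z, (B.bc p F).app U' (σ z) = τ (kerBC (M.d p) Γ(S', U') z) := by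
  have : QuasiSeparated f' := MorphismProperty.of_isPullback h ‹QuasiSeparated f›
  have : QuasiCompact f' := MorphismProperty.of_isPullback h ‹QuasiCompact f›
  letI : Algebra Γ(S, V) Γ(S', U') := sectionsAlg g e
  letI : ((f' ⁻¹ᵁ U' : X'.Opens) : Scheme.{u}).Over (Spec (CommRingCat.of Γ(S', U'))) :=
    ⟨preimageToSpec f'⟩
  let F' := (Scheme.Modules.pullback g').obj F
  have : F'.IsQuasicoherent := QCohMod.isQCoh_pullback_obj g' F
  have := isQCoh_Rpush f (M := F) p
  let R := (Coh.Rpush f p).obj F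
  have e' : f' ⁻¹ᵁ U' ≤ g' ⁻¹ᵁ (f ⁻¹ᵁ V) :=
    (f'.preimage_mono e).trans (CohCmp.sqLE f g f' g' h.w V)
  let u := g'.resLE (f ⁻¹ᵁ V) (f' ⁻¹ᵁ U') e'
  obtain ⟨eB, heB⟩ := M.exists_e Γ(S', U') (preimageToSpec f') u (isBC_resLE h hV hU' e e') p
  let iso := CohPull.pullOnIso g' (f ⁻¹ᵁ V) (f' ⁻¹ᵁ U') e' F
  let L := secEquiv E hV M p
  let τ : LinearMap.ker ((M.d p).baseChange Γ(S', U')) → Γ((Coh.Rpush f' p).obj F', U') :=
    fun y => E'.ε U' F' p (CohC3.hmap Γ(S', U') iso.hom p (eB y))
  let σ : Γ(S', U') ⊗[Γ(S, V)] LinearMap.ker (M.d p) → Γ((Scheme.Modules.pullback g).obj R, U') :=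
    fun z => pullSecTensor g R e (LinearEquiv.lTensor Γ(S', U') L z)
  refine ⟨σ, τ, (pullSecTensor_bijective g R e hV hU').comp
      (LinearEquiv.lTensor Γ(S', U') L).bijective,
    (eps_bijective_of_affine E' F' hU' p).comp
      ((CohC3.hmap_bijective_of_isIso iso.hom p).comp eB.bijective), fun z => ?_⟩
  induction z using TensorProduct.induction_on with
  | zero => simp [σ, τ]
  | add a b ha hb =>
    simp only [σ, τ, map_add] at ha hb ⊢
    rw [ha, hb]
  | tmul a x =>
    let z₁ : LinearMap.ker ((M.d p).baseChange Γ(S', U')) :=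
      ⟨(1 : Γ(S', U')) ⊗ₜ x.1, by
        rw [LinearMap.mem_ker, LinearMap.baseChange_tmul, show M.d p x.1 = 0 from x.2,
          TensorProduct.tmul_zero]⟩
    have hk : kerBC (M.d p) Γ(S', U') (a ⊗ₜ x) = a • z₁ := by
      refine Subtype.ext ?_
      rw [kerBC_coe, LinearMap.baseChange_tmul, SetLike.val_smul, TensorProduct.smul_tmul',
        smul_eq_mul, mul_one]
      rfl
    refine ((congrArg ((B.bc p F).app U') (pullSecTensor_tmul g R e a _)).trans
      ((B.bc p F).app_smul a _)).trans ?_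
    refine (congrArg (a • ·) (bc_res_pullSec B p F e (M.e₀ p x))).trans ?_
    refine Eq.trans ?_ (congrArg τ hk).symm
    change _ = E'.ε U' F' p (CohC3.hmap Γ(S', U') iso.hom p (eB (a • z₁)))
    refine Eq.trans ?_ (congrArg (fun t => E'.ε U' F' p (CohC3.hmap Γ(S', U') iso.hom p t))
      (eB.map_smul a z₁)).symm
    refine Eq.trans ?_ (congrArg (E'.ε U' F' p)
      ((CohC3.hmap Γ(S', U') iso.hom p).map_smul a (eB z₁))).symm
    refine (eps_smul E' F' U' p a _).symm.trans (congrArg (E'.ε U' F' p) ?_)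
    refine Eq.trans (congrArg (fun r : Γ((f' ⁻¹ᵁ U').toScheme, ⊤) => r • _)
      (Groth.Limits.FibreVanishing.globalMap_preimage f' a).symm) ?_
    exact congrArg (fun t => Coh.toGlobal (preimageToSpec f') a • CohC3.hmap Γ(S', U') iso.hom p t)
      (heB x z₁ rfl).symm

end Square

end Groth.CohC3.BC
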